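import Cfsg.Agent.H65.MonsterFive.Fixed

/-!
The centraliser of an element of shape 1^4 5^4 in the isometry group, and its action on ten totally
singular subspaces of the fixed classes.
-/

set_option autoImplicit false
set_option maxRecDepth 100000

namespace Cfsg.Agent.H65.MonsterFive

open Cfsg Cfsg.Agent.Golay Cfsg.Agent.H92.LeechTwo Cfsg.Agent.H92.LeechOrbit
open scoped Pointwise

/-- the centraliser -/
noncomputable def cent : Subgroup Co0 := Subgroup.centralizer {five}

theorem cent_comm {g : Co0} (h : g ∈ cent) (v : leechLattice) : g • (five • v) = five • (g • v) := by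
  rw [← mul_smul, ← mul_smul, Subgroup.mem_centralizer_singleton_iff.1 h]

theorem five_mem : five ∈ cent := Subgroup.mem_centralizer_singleton_iff.2 rfl

/-! ### Action on the fixed classes -/

/-- the image of a class -/
noncomputable def sh (g : cent) (i : Fin 256) : Fin 256 := ix (g.1 • Rv i)

theorem sh_spec (g : cent) (i : Fin 256) : Cg (g.1 • Rv i) (Rv (sh g i)) :=
  cg_ix (by rw [← cent_comm g.2, five_Rv]; exact Cg.refl _)

theorem sh_mul (g h : cent) (i : Fin 256) : sh (g * h) i = sh g (sh h i) := by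
  show ix ((g.1 * h.1) • Rv i) = ix (g.1 • Rv (sh h i))
  rw [mul_smul]
  exact ix_cg (Cg.smul g.1 (sh_spec h i))

theorem sh_one (i : Fin 256) : sh 1 i = i := by
  show ix ((1 : Co0) • Rv i) = i
  rw [one_smul, ix_Rv]

/-- the action on the fixed classes -/
noncomputable def shHom : cent →* Equiv.Perm (Fin 256) := MonoidHom.mk'
  (fun g => ⟨sh g, sh g⁻¹, fun i => by rw [← sh_mul, inv_mul_cancel, sh_one],
    fun i => by rw [← sh_mul, mul_inv_cancel, sh_one]⟩)
  fun g h => Equiv.ext fun i => sh_mul g h i

theorem shHom_apply (g : cent) (i : Fin 256) : shHom g i = sh g i := rfl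

theorem shHom_eq_one {g : cent} (h : ∀ i, Cg (g.1 • Rv i) (Rv i)) : shHom g = 1 :=
  Equiv.ext fun i => (ix_cg (h i)).trans (ix_Rv i)

/-! ### The bound -/

theorem axis_fixed : five • axisVec none = axisVec none := by
  refine five_fix_iff.2 fun q => ?_
  have h : ∀ q, (Pi.single none (8 : ℤ) : GolayPt → ℤ) (tauF q) = (Pi.single none (8 : ℤ) : GolayPt → ℤ) q := by
    decide +kernel
  exact h q

/-- the class of an axis -/
noncomputable def ax0 : Fin 256 := ix (axisVec none)

theorem Rv_ax0 : Cg (axisVec none) (Rv ax0) := cg_ix (by rw [axis_fixed]; exact Cg.refl _)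

theorem six_of_norm {v : leechLattice} {i : Fin 256} (h : Cg v (Rv i)) (hn : nrm v = 64) :
    sixL.contains i.1 = true := by
  by_contra hc
  rw [Bool.not_eq_true] at hc
  have hsmall : nrm (Rv i) = 0 ∨ nrm (Rv i) = 32 ∨ nrm (Rv i) = 48 := by
    rcases (reps_norm i).2 hc with h0 | h0 | h0
    · left
      rw [show i = 0 from Fin.ext h0, Rv_zero, nrm_zero]
    · exact Or.inr (Or.inl h0)
    · exact Or.inr (Or.inr h0)
  rcases short_unique h (by omega) with e | e | ⟨e, -⟩
  · rw [e] at hsmall; omega
  · rw [e, nrm_neg] at hsmall; omega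
  · omega

theorem sh_ax0_six (g : cent) : sixL.contains (sh g ax0).1 = true :=
  six_of_norm ((Cg.smul g.1 Rv_ax0).trans (sh_spec g ax0))
    ((co0_sqNorm g.1 _).trans (Cfsg.Agent.H92.LeechTwo.nrm_axis none))

/-- sign sets fixed by the element -/
def invCodes : List ℕ := codeList.filter fun m => Nat.beq (tblImg tauT m) m

theorem invCodes_length : invCodes.length = 16 := by decide +kernel

theorem permOf_five : permOf ⟨five, five_eq ▸ permAut_mem tau⟩ = tau := by
  have : (⟨five, five_eq ▸ permAut_mem tau⟩ : crossStab) = ⟨permAut tau, permAut_mem tau⟩ :=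
    Subtype.ext five_eq
  rw [this, permOf_permAut]

theorem crossCent_split {g : Co0} (hg : g ∈ cent) (hgc : g ∈ crossStab) :
    ∃ σ : centTau, ∃ c : SignSet, maskOf c.1 ∈ invCodes ∧ g = signAut c * permHom σ.1 := by
  have hcomm : g * five = five * g := Subgroup.mem_centralizer_singleton_iff.1 hg
  have hfive : five ∈ crossStab := five_eq ▸ permAut_mem tau
  have hσ : permOf ⟨g, hgc⟩ ∈ centTau := by
    refine Subgroup.mem_centralizer_singleton_iff.2 ?_
    rw [← permOf_five, ← map_mul, ← map_mul]
    exact congrArg permOf (Subtype.ext hcomm)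
  obtain ⟨a, ha, σ, hgσ⟩ := split_crossStab hgc
  have hσ' : σ = permOf ⟨g, hgc⟩ := by
    have hac : a ∈ crossStab := signs_le ha
    have : (⟨g, hgc⟩ : crossStab) = ⟨a, hac⟩ * ⟨permAut σ, permAut_mem σ⟩ := Subtype.ext hgσ
    rw [this, map_mul, permOf_permAut]
    obtain ⟨a', ha', hae⟩ := ha
    rw [show (⟨a, hac⟩ : crossStab) = a' from Subtype.ext hae.symm, MonoidHom.mem_ker.1 ha', one_mul]
  subst hσ'
  set σ := permOf ⟨g, hgc⟩
  obtain ⟨c, rfl⟩ := mem_signs.1 ha
  refine ⟨⟨σ, hσ⟩, c, ?_, hgσ⟩
  -- the sign set is fixed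
  have hσc : permHom σ * five = five * permHom σ := by
    rw [five_eq, show permAut tau = permHom tau from rfl, ← map_mul, ← map_mul,
      Subgroup.mem_centralizer_singleton_iff.1 hσ]
  have hc : permAut tau * signAut c * (permAut tau)⁻¹ = signAut c := by
    rw [← five_eq, mul_inv_eq_iff_eq_mul]
    rw [hgσ, mul_assoc, hσc, ← mul_assoc, ← mul_assoc] at hcomm
    exact (mul_right_cancel hcomm).symm
  obtain ⟨d, hd, he⟩ := conj_signAut tau c
  have hdc : d = c := congrArg Prod.snd (monoAut_injective (a₁ := ((1 : M24), d))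
    (a₂ := ((1 : M24), c)) (he.symm.trans hc))
  subst hdc
  rw [invCodes, List.mem_filter]
  refine ⟨mem_supports_iff.1 d.2, ?_⟩
  have hv := validT_of_inM24 tauT_ok
  have : tblImg tauT (maskOf d.1) = maskOf d.1 := by
    refine ptSet_injOn (tblImg_lt hv _) (maskOf_lt _) ?_
    rw [ptSet_tblImg hv, ptSet_maskOf]
    exact hd.symm
  rw [this]
  exact Nat.beq_refl _

theorem card_crossCent : Nat.card (crossStab.subgroupOf cent) ≤ 960 := by
  choose σ c hc he using fun g : crossStab.subgroupOf cent => crossCent_split g.1.2 g.2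
  have hinj : Function.Injective (fun g : crossStab.subgroupOf cent =>
      ((⟨maskOf (c g).1, List.mem_toFinset.2 (hc g)⟩ : invCodes.toFinset), σ g)) := by
    intro g g' h
    have h1 : c g = c g' := Subtype.ext (maskOf_injective (congrArg (fun p => (p.1 : ℕ)) h))
    have h2 : σ g = σ g' := congrArg Prod.snd h
    refine Subtype.ext (Subtype.ext ?_)
    rw [he g, he g', h1, h2]
  have h := Nat.card_le_card_of_injective _ hinj
  rw [Nat.card_prod, Nat.card_eq_fintype_card (α := invCodes.toFinset), Fintype.card_coe] at h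
  have h1 := invCodes.toFinset_card_le
  rw [invCodes_length] at h1
  exact h.trans (Nat.mul_le_mul h1 card_centTau)

theorem card_cent_le : Nat.card cent ≤ 72000 := by
  set K := crossStab.subgroupOf cent
  have h1 := K.card_eq_card_quotient_mul_card_subgroup
  have hcl : ∀ g h : cent, sh g ax0 = sh h ax0 → (QuotientGroup.mk g : cent ⧸ K) = QuotientGroup.mk h := by
    intro g h he
    refine QuotientGroup.eq.2 ?_
    show (g⁻¹ * h : cent).1 ∈ crossStab
    rw [← classStab_axis, mem_classStab]
    have e1 := (Cg.smul g.1 Rv_ax0).trans (sh_spec g ax0)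
    have e2 := (Cg.smul h.1 Rv_ax0).trans (sh_spec h ax0)
    rw [he] at e1
    have e3 := Cg.smul g.1⁻¹ (e2.trans e1.symm)
    rw [inv_smul_smul, ← mul_smul] at e3
    exact e3
  have h2 : Nat.card (cent ⧸ K) ≤ 75 := by
    have hlen : ((Finset.univ : Finset (Fin 256)).filter fun i => sixL.contains i.1).card = 75 := by
      decide +kernel
    have : Nat.card (cent ⧸ K) ≤ Nat.card ((Finset.univ : Finset (Fin 256)).filter fun i => sixL.contains i.1) := by
      refine Nat.card_le_card_of_injective
        (fun q => ⟨sh q.out ax0, Finset.mem_filter.2 ⟨Finset.mem_univ _, sh_ax0_six _⟩⟩) fun q q' h => ?_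
      have := hcl q.out q'.out (congrArg (fun x => (x.1 : Fin 256)) h)
      rwa [QuotientGroup.out_eq', QuotientGroup.out_eq'] at this
    rwa [Nat.card_eq_fintype_card (α := ((Finset.univ : Finset (Fin 256)).filter fun i => sixL.contains i.1)),
      Fintype.card_coe, hlen] at this
  rw [h1]
  exact Nat.mul_le_mul h2 card_crossCent

/-! ### Generators -/

/-- a generator -/
noncomputable def gen (a : Fin 3) : Co0 := wordEl (genW.getD a.1 [])

theorem wordEl_append : ∀ a b : List Atom, wordEl (a ++ b) = wordEl b * wordEl a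
  | [], b => by rw [List.nil_append, wordEl, mul_one]
  | x :: r, b => by rw [List.cons_append, wordEl, wordEl, wordEl_append r b, mul_assoc]

theorem test_facts :
    (∀ n ∈ testN, inLeech (dec n) = true) ∧
    (∃ n ∈ testN, ∀ q, oddMin q = dec n q) ∧
    (∀ b ∈ basisList, ∃ n ∈ testN, ∀ q, (if b.testBit (idx q) then (2 : ℤ) else 0) = dec n q) ∧
    (∀ l : GolayPt, l ≠ none → ∃ n ∈ testN,
      ∀ q, (if q = l then (4 : ℤ) else if q = none then -4 else 0) = dec n q) ∧
    (∃ n ∈ testN, ∃ m ∈ testN, ∀ q, (if q = none then (8 : ℤ) else 0) = dec n q - dec m q) := by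
  decide +kernel

theorem eq_of_test {A B : Co0}
    (h : ∀ n ∈ testN, ∀ v : leechLattice, v.1 = dec n → A • v = B • v) : A = B := by
  obtain ⟨hL, h1, h2, h3, h4⟩ := test_facts
  let K : AddSubgroup (GolayPt → ℤ) :=
    { carrier := {x | ∃ hx : x ∈ leechLattice, A • (⟨x, hx⟩ : leechLattice) = B • ⟨x, hx⟩}
      zero_mem' := ⟨zero_mem _, (co0_smul_zero A).trans (co0_smul_zero B).symm⟩
      add_mem' := by
        rintro x y ⟨hx, ex⟩ ⟨hy, ey⟩
        refine ⟨add_mem hx hy, ?_⟩
        show A • ((⟨x, hx⟩ : leechLattice) + ⟨y, hy⟩) = B • ((⟨x, hx⟩ : leechLattice) + ⟨y, hy⟩)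
        rw [co0_smul_add, co0_smul_add, ex, ey]
      neg_mem' := by
        rintro x ⟨hx, ex⟩
        refine ⟨neg_mem hx, ?_⟩
        show A • (-(⟨x, hx⟩ : leechLattice)) = B • (-(⟨x, hx⟩ : leechLattice))
        rw [co0_smul_neg, co0_smul_neg, ex] }
  have hmem : ∀ n ∈ testN, dec n ∈ K := fun n hn => ⟨mem_of_inLeech (hL n hn), h n hn _ rfl⟩
  have hle : leechLattice ≤ K := by
    refine leech_le_of_gens K ?_ (fun b hb => ?_) (fun l hl => ?_) ?_
    · obtain ⟨n, hn, e⟩ := h1
      rw [show oddMin = dec n from funext e]; exact hmem n hn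
    · obtain ⟨n, hn, e⟩ := h2 b hb
      rw [show (fun i => if b.testBit (idx i) then (2 : ℤ) else 0) = dec n from funext e]; exact hmem n hn
    · obtain ⟨n, hn, e⟩ := h3 l hl
      rw [show (4 : ℕ) • (Pi.single l (1 : ℤ) - Pi.single none 1) = dec n by
        funext q
        rw [← e q]
        rcases eq_or_ne q l with rfl | g1
        · simp [hl]
        · rcases eq_or_ne q none with rfl | g2
          · simp [g1]
          · simp [g1, g2]]
      exact hmem n hn
    · obtain ⟨n, hn, m, hm, e⟩ := h4
      rw [show (8 : ℕ) • (Pi.single (none : GolayPt) (1 : ℤ)) = dec n - dec m by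
        funext q
        rw [Pi.sub_apply, ← e q]
        rcases eq_or_ne q none with rfl | g2
        · simp
        · simp [g2]]
      exact sub_mem (hmem n hn) (hmem m hm)
  exact co0_ext fun v => (hle v.2).2

/-- the code reached by a word -/
noncomputable def appWord : List Atom → ℕ → ℕ
  | [], n => n
  | a :: r, n => appWord r (appAtom a n)

theorem gen_checks : ∀ a : Fin 3, (genW.getD a.1 []).all atomOK = true ∧
    ∀ n ∈ testN,
      chk (genW.getD a.1 [] ++ [tauAtom]) n (appWord (genW.getD a.1 [] ++ [tauAtom]) n) = true ∧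
      chk (tauAtom :: genW.getD a.1 []) n (appWord (genW.getD a.1 [] ++ [tauAtom]) n) = true := by
  decide +kernel

theorem gen_mem (a : Fin 3) : gen a ∈ cent := by
  obtain ⟨hok, hc⟩ := gen_checks a
  have h1 : (genW.getD a.1 [] ++ [tauAtom]).all atomOK = true := by
    rw [List.all_append, hok]; simp [tauAtom_ok]
  have h2 : (tauAtom :: genW.getD a.1 []).all atomOK = true := by
    rw [List.all_cons, hok, tauAtom_ok]; rfl
  have : wordEl (genW.getD a.1 [] ++ [tauAtom]) = wordEl ([tauAtom] ++ genW.getD a.1 []) :=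
    eq_of_test fun n hn v hv => Subtype.ext (by
      rw [chk_sound h1 (hc n hn).1 hv, List.singleton_append, chk_sound h2 (hc n hn).2 hv])
  rw [wordEl_append, wordEl_append] at this
  exact Subgroup.mem_centralizer_singleton_iff.2 this.symm

/-- the predicted image of a class -/
def piN (a : Fin 3) (i : Fin 256) : ℕ :=
  List.foldr (fun j acc => (bif (coordL.getD i.1 0).testBit j then (genKey.getD a.1 []).getD j 0 else 0) ^^^ acc)
    0 [0, 1, 2, 3, 4, 5, 6, 7]

theorem piN_lt : ∀ (a : Fin 3) (i : Fin 256), piN a i < 256 := by decide +kernel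

theorem coord_ok : ∀ i : Fin 256,
    (∑ j : Fin 8, bif (coordL.getD i.1 0).testBit j.1 then kvN (basN.getD j.1 0) else 0) = bits i.1 := by
  decide +kernel

theorem image_ok : ∀ (a : Fin 3) (j : Fin 8),
    chk (genW.getD a.1 []) (basN.getD j.1 0) ((genIm.getD a.1 []).getD j.1 0) = true ∧
    kvN ((genIm.getD a.1 []).getD j.1 0) = bits ((genKey.getD a.1 []).getD j.1 0) := by
  decide +kernel

theorem sh_gen (a : Fin 3) (i : Fin 256) : sh ⟨gen a, gen_mem a⟩ i = ⟨piN a i, piN_lt a i⟩ := by
  set c := coordL.getD i.1 0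
  set w : leechLattice := ∑ j : Fin 8, bif c.testBit j.1 then bv j else 0 with hw
  let kh : leechLattice →+ (Fin 8 → ZMod 2) := AddMonoidHom.mk' kv kv_add
  let fh : leechLattice →+ (Fin 8 → ZMod 2) := AddMonoidHom.mk' (fun v => kv (gen a • v))
    fun v v' => by rw [co0_smul_add, kv_add]
  have hwf : five • w = w := by
    refine mem_fixL.1 (sum_mem fun j _ => ?_)
    cases c.testBit j.1
    · exact zero_mem fixL
    · exact five_bv j
  have hwk : kv w = bits i.1 := by
    show kh w = _
    rw [hw, map_sum, ← coord_ok i]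
    refine Finset.sum_congr rfl fun j _ => ?_
    show kh (bif c.testBit j.1 then bv j else 0) = bif c.testBit j.1 then _ else 0
    cases c.testBit j.1
    · exact map_zero kh
    · exact kv_of_dec rfl
  have hcg : Cg (Rv i) w := cg_of_kv (five_Rv i) hwf ((kv_Rv i).trans hwk.symm)
  refine bits_injective _ _ ?_
  show bits (ix (gen a • Rv i)).1 = bits (piN a i)
  rw [bits_ix, kv_cg (Cg.smul (gen a) hcg)]
  show fh w = _
  rw [hw, map_sum, Fin.sum_univ_eight]
  have he : ∀ j : Fin 8, fh (bif c.testBit j.1 then bv j else 0) =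
      bits (bif c.testBit j.1 then (genKey.getD a.1 []).getD j.1 0 else 0) := by
    intro j
    cases c.testBit j.1
    · rw [cond_false, cond_false, map_zero]
      funext k
      simp [bits]
    · rw [cond_true, cond_true, ← (image_ok a j).2]
      exact kv_of_dec (chk_sound (gen_checks a).1 (image_ok a j).1 rfl)
  simp only [he, piN, List.foldr_cons, List.foldr_nil, bits_xor]
  have h0 : bits 0 = 0 := by funext k; simp [bits]
  rw [h0]
  simp only [add_zero, add_assoc]
  rfl

/-! ### The ten subspaces -/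

/-- a subspace as a set of indices -/
def subS (k : Fin 10) : Finset (Fin 256) :=
  Finset.univ.filter fun i => (subL.getD k.1 0).testBit i.1

theorem subS_injective : Function.Injective subS := by
  have h : ∀ k l : Fin 10, subL.getD k.1 0 = subL.getD l.1 0 → k = l := by decide +kernel
  have hlt : ∀ k : Fin 10, subL.getD k.1 0 < 2 ^ 256 := by decide +kernel
  intro k l e
  refine h k l (Nat.eq_of_testBit_eq fun b => ?_)
  rcases Nat.lt_or_ge b 256 with hb | hb
  · have := congrArg (fun s : Finset (Fin 256) => (⟨b, hb⟩ : Fin 256) ∈ s) e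
    simp only [subS, Finset.mem_filter, Finset.mem_univ, true_and, eq_iff_iff] at this
    exact Bool.eq_iff_iff.2 this
  · rw [Nat.testBit_lt_two_pow (lt_of_lt_of_le (hlt k) (Nat.pow_le_pow_right two_pos hb)),
      Nat.testBit_lt_two_pow (lt_of_lt_of_le (hlt l) (Nat.pow_le_pow_right two_pos hb))]

theorem subS_card : ∀ k : Fin 10, (subS k).card = 15 := by decide +kernel

/-- the action of a generator on the subspaces -/
def gpFun (a : Fin 3) (k : Fin 10) : Fin 10 := Fin.ofNat 10 ((genP.getD a.1 []).getD k.1 0)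

theorem gpFun_inj : ∀ (a : Fin 3) (k l : Fin 10), gpFun a k = gpFun a l → k = l := by decide +kernel

theorem gp_image : ∀ (a : Fin 3) (k : Fin 10), ∀ i : Fin 256, (subL.getD k.1 0).testBit i.1 = true →
    (subL.getD (gpFun a k).1 0).testBit (piN a i) = true := by
  decide +kernel

/-- the elements permuting the subspaces -/
noncomputable def good : Subgroup cent where
  carrier := {g | ∃ p : Equiv.Perm (Fin 10), ∀ k, (subS k).image (shHom g) = subS (p k)}
  one_mem' := ⟨1, fun k => by simp⟩
  mul_mem' := by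
    rintro g h ⟨p, hp⟩ ⟨q, hq⟩
    refine ⟨p * q, fun k => ?_⟩
    rw [map_mul, Equiv.Perm.coe_mul, ← Finset.image_image, hq, hp]
    rfl
  inv_mem' := by
    rintro g ⟨p, hp⟩
    refine ⟨p⁻¹, fun k => ?_⟩
    obtain ⟨l, rfl⟩ := p.surjective k
    rw [← hp, Finset.image_image, map_inv, ← Equiv.Perm.coe_mul, inv_mul_cancel]
    simp

theorem gen_image (a : Fin 3) (k : Fin 10) :
    (subS k).image (shHom ⟨gen a, gen_mem a⟩) = subS (gpFun a k) := by
  refine Finset.eq_of_subset_of_card_le ?_ ?_
  · intro x hx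
    obtain ⟨i, hi, rfl⟩ := Finset.mem_image.1 hx
    rw [shHom_apply, sh_gen]
    simp only [subS, Finset.mem_filter, Finset.mem_univ, true_and] at hi ⊢
    exact gp_image a k i hi
  · rw [Finset.card_image_of_injective _ (Equiv.injective _), subS_card, subS_card]

theorem gen_good (a : Fin 3) : (⟨gen a, gen_mem a⟩ : cent) ∈ good :=
  ⟨Equiv.ofBijective (gpFun a) ⟨gpFun_inj a, Finite.surjective_of_injective (gpFun_inj a)⟩,
    fun k => gen_image a k⟩

/-- the action on the subspaces -/
noncomputable def tenHom : good →* Equiv.Perm (Fin 10) := MonoidHom.mk' (fun g => g.2.choose)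
  fun g h => Equiv.ext fun k => subS_injective (by
    rw [← (g * h).2.choose_spec k, Subgroup.coe_mul, map_mul, Equiv.Perm.coe_mul, ← Finset.image_image,
      h.2.choose_spec, g.2.choose_spec]
    rfl)

theorem tenHom_spec (g : good) (k : Fin 10) : (subS k).image (shHom g.1) = subS (tenHom g k) :=
  g.2.choose_spec k

theorem tenHom_gen (a : Fin 3) (k : Fin 10) :
    tenHom ⟨⟨gen a, gen_mem a⟩, gen_good a⟩ k = gpFun a k :=
  subS_injective ((tenHom_spec _ k).symm.trans (gen_image a k))

theorem tenHom_eq_one {g : good} (h : shHom g.1 = 1) : tenHom g = 1 :=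
  Equiv.ext fun k => subS_injective (by
    rw [← tenHom_spec, h]; simp)

theorem good_of_trivial {g : cent} (h : shHom g = 1) : g ∈ good := ⟨1, fun k => by rw [h]; simp⟩

end Cfsg.Agent.H65.MonsterFive
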