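import Cfsg.Agent.H65.MonsterFive.Perm

/-!
Classes of the lattice modulo two fixed by an element of shape 1^4 5^4: there are 256, given by a
list of short fixed vectors.
-/

set_option autoImplicit false
set_option maxRecDepth 100000

namespace Cfsg.Agent.H65.MonsterFive

open Cfsg Cfsg.Agent.Golay Cfsg.Agent.H92.LeechTwo Cfsg.Agent.H92.LeechOrbit

/-- the atom of the element -/
def tauAtom : Atom := .mono 0 0 tauT

/-- the element of order five in the isometry group -/
noncomputable def five : Co0 := wordEl [tauAtom]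

theorem tauAtom_ok : atomOK tauAtom = true := by decide +kernel

theorem five_apply (v : leechLattice) (q : GolayPt) :
    (five • v).1 (tau.1 q) = v.1 q := by
  rw [five, wordEl, wordEl, one_mul, tau_apply, tauF, tblFun, tauAtom, monoEl_apply tauAtom_ok,
    Nat.zero_testBit]
  rfl

theorem five_eq : five = permAut tau := co0_ext fun v => Subtype.ext (funext fun l => by
  obtain ⟨q, rfl⟩ : ∃ q, tau.1 q = l := ⟨tau.1.symm l, tau.1.apply_symm_apply l⟩
  rw [five_apply, permAut_apply])

theorem five_fix_iff {v : leechLattice} : five • v = v ↔ ∀ q, v.1 (tauF q) = v.1 q := by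
  constructor
  · intro h q
    have := five_apply v q
    rwa [h, tau_apply] at this
  · intro h
    refine Subtype.ext (funext fun l => ?_)
    obtain ⟨q, rfl⟩ : ∃ q, tau.1 q = l := ⟨tau.1.symm l, tau.1.apply_symm_apply l⟩
    rw [five_apply, tau_apply, h]

theorem five_pow_five : five ^ 5 = 1 := by
  have h : ∀ n (v : leechLattice) (q : GolayPt), (five ^ n • v).1 (tauF^[n] q) = v.1 q := by
    intro n
    induction n with
    | zero => intro v q; simp
    | succ n ih =>
      intro v q
      rw [pow_succ', mul_smul, Function.iterate_succ_apply', ← tau_apply, five_apply, ih]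
  refine co0_ext fun v => Subtype.ext (funext fun q => ?_)
  have := h 5 v q
  rw [tauF_facts.2.2.2.2.2] at this
  rw [this, one_smul]

theorem five_ne_one : five ≠ 1 := fun h => by
  have h1 : five • axisVec (rp 0) = axisVec (rp 0) := by rw [h, one_smul]
  have h2 := (five_fix_iff.1 h1) (rp 0)
  have h3 : (Pi.single (rp 0) (8 : ℤ) : GolayPt → ℤ) (tauF (rp 0)) ≠
      (Pi.single (rp 0) (8 : ℤ) : GolayPt → ℤ) (rp 0) := by decide +kernel
  exact h3 h2

/-! ### Keys -/

/-- a key read off a packed vector -/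
def kvN (n : ℕ) : Fin 8 → ZMod 2 := fun j =>
  ((dotInt (dec n) (dec (basN.getD j.1 0)) / 8 : ℤ) : ZMod 2)

/-- the binary digits of a number -/
def bits (n : ℕ) : Fin 8 → ZMod 2 := fun j => bif n.testBit j.1 then 1 else 0

theorem bas_ok : ∀ j : Fin 8, inLeech (dec (basN.getD j.1 0)) = true ∧
    (∀ q, dec (basN.getD j.1 0) (tauF q) = dec (basN.getD j.1 0) q) := by
  decide +kernel

/-- eight fixed minimal vectors -/
def bv (j : Fin 8) : leechLattice := ⟨dec (basN.getD j.1 0), mem_of_inLeech (bas_ok j).1⟩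

/-- the key of a vector -/
def kv (v : leechLattice) : Fin 8 → ZMod 2 := fun j => d8 v (bv j)

theorem kv_add (v w : leechLattice) : kv (v + w) = kv v + kv w := funext fun j => d8_add v w (bv j)

theorem kv_zero : kv 0 = 0 := funext fun j => d8_zero (bv j)

theorem kv_cg {v w : leechLattice} (h : Cg v w) : kv v = kv w := by
  obtain ⟨u, rfl⟩ := h
  rw [kv_add, kv_add]
  funext j
  simp [CharTwo.add_self_eq_zero]

theorem kv_of_dec {v : leechLattice} {n : ℕ} (h : v.1 = dec n) : kv v = kvN n := by
  funext j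
  show ((dotInt v.1 (dec (basN.getD j.1 0)) / 8 : ℤ) : ZMod 2) = _
  rw [h]; rfl

theorem bits_injective : ∀ a b : Fin 256, bits a.1 = bits b.1 → a = b := by
  intro a b h
  refine Fin.ext (Nat.eq_of_testBit_eq fun k => ?_)
  rcases Nat.lt_or_ge k 8 with hk | hk
  · have := congrFun h ⟨k, hk⟩
    simp only [bits] at this
    cases ha : a.1.testBit k <;> cases hb : b.1.testBit k <;> simp_all
  · rw [Nat.testBit_lt_two_pow (lt_of_lt_of_le a.2 (Nat.pow_le_pow_right two_pos hk)),
      Nat.testBit_lt_two_pow (lt_of_lt_of_le b.2 (Nat.pow_le_pow_right two_pos hk))]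

/-- keys as indices -/
noncomputable def bitsEquiv : Fin 256 ≃ (Fin 8 → ZMod 2) :=
  Equiv.ofBijective (fun i => bits i.1)
    ((Fintype.bijective_iff_injective_and_card _).2 ⟨fun a b h => bits_injective a b h, by simp⟩)

theorem bitsEquiv_apply (i : Fin 256) : bitsEquiv i = bits i.1 := rfl

theorem bits_xor (a b : ℕ) : bits (a ^^^ b) = bits a + bits b := by
  funext j
  simp only [bits, Nat.testBit_xor, Pi.add_apply]
  cases a.testBit j.1 <;> cases b.testBit j.1 <;> simp <;> decide

theorem reps_ok : ∀ i : Fin 256, inLeech (dec (repsN.getD i.1 0)) = true ∧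
    (∀ q, dec (repsN.getD i.1 0) (tauF q) = dec (repsN.getD i.1 0) q) := by
  decide +kernel

theorem reps_key : ∀ i : Fin 256, kvN (repsN.getD i.1 0) = bits i.1 := by decide +kernel

/-- the listed representatives -/
def Rv (i : Fin 256) : leechLattice := ⟨dec (repsN.getD i.1 0), mem_of_inLeech (reps_ok i).1⟩

theorem kv_Rv (i : Fin 256) : kv (Rv i) = bits i.1 := (kv_of_dec rfl).trans (reps_key i)

theorem five_Rv (i : Fin 256) : five • Rv i = Rv i := five_fix_iff.2 (reps_ok i).2

theorem five_bv (j : Fin 8) : five • bv j = bv j := five_fix_iff.2 (bas_ok j).2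

/-- the fixed vectors -/
def fixL : AddSubgroup leechLattice where
  carrier := {v | five • v = v}
  zero_mem' := co0_smul_zero five
  add_mem' := fun {a b} ha hb => by
    show five • (a + b) = a + b
    rw [co0_smul_add, ha, hb]
  neg_mem' := fun {a} ha => by
    show five • -a = -a
    rw [co0_smul_neg, ha]

theorem mem_fixL {v : leechLattice} : v ∈ fixL ↔ five • v = v := Iff.rfl

/-- coordinates of a fixed vector at orbit representatives -/
def coords : fixL →+ (Fin 8 → ℤ) :=
  AddMonoidHom.mk' (fun v j => v.1.1 (pt ((fxL ++ repL).getD j.1 0))) fun _ _ => rfl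

theorem coords_injective : Function.Injective coords := by
  rw [injective_iff_map_eq_zero]
  intro v hv
  have hv' : ∀ j : Fin 8, v.1.1 (pt ((fxL ++ repL).getD j.1 0)) = 0 := congrFun hv
  have hfix := five_fix_iff.1 v.2
  have hit : ∀ n q, v.1.1 (tauF^[n] q) = v.1.1 q := by
    intro n q
    induction n with
    | zero => rfl
    | succ n ih => rw [Function.iterate_succ_apply', hfix, ih]
  have hcov : ∀ q, ∃ j : Fin 8, ∃ n : Fin 5, q = tauF^[n.1] (pt ((fxL ++ repL).getD j.1 0)) := by
    decide +kernel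
  refine Subtype.ext (Subtype.ext (funext fun q => ?_))
  obtain ⟨j, n, rfl⟩ := hcov q
  rw [hit, hv']
  rfl

theorem kv_fixed_injective {v : leechLattice} (hv : five • v = v) (h : kv v = 0) : Cg v 0 := by
  classical
  set N : Submodule ℤ (Fin 8 → ℤ) := LinearMap.range coords.toIntLinearMap
  obtain ⟨n, c⟩ := Submodule.basisOfPid (Pi.basisFun ℤ (Fin 8)) N
  have hn : n ≤ 8 := by
    have := Submodule.finrank_le N
    rwa [Module.finrank_eq_card_basis c, Fintype.card_fin, Module.finrank_fin_fun] at this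
  let e : fixL ≃ₗ[ℤ] N := LinearEquiv.ofInjective coords.toIntLinearMap coords_injective
  set d : Module.Basis (Fin n) ℤ fixL := c.map e.symm
  let kh : fixL →+ (Fin 8 → ZMod 2) := AddMonoidHom.mk' (fun u => kv u.1) fun a b => kv_add a.1 b.1
  let F : (Fin n → ZMod 2) → (Fin 8 → ZMod 2) := fun ε => ∑ i, ε i • kh (d i)
  have hF : ∀ u : fixL, F (fun i => (d.repr u i : ZMod 2)) = kh u := by
    intro u
    conv_rhs => rw [← d.sum_repr u, map_sum]
    refine Finset.sum_congr rfl fun i _ => ?_
    rw [map_zsmul, Int.cast_smul_eq_zsmul]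
  have hsurj : Function.Surjective F := by
    intro w
    obtain ⟨i, hi⟩ := bitsEquiv.surjective w
    exact ⟨_, (hF ⟨Rv i, five_Rv i⟩).trans ((kv_Rv i).trans hi)⟩
  have hcard : Fintype.card (Fin n → ZMod 2) = Fintype.card (Fin 8 → ZMod 2) := by
    have h1 := Fintype.card_le_of_surjective F hsurj
    simp only [Fintype.card_fun, ZMod.card, Fintype.card_fin] at h1 ⊢
    have := Nat.pow_le_pow_right two_pos hn
    omega
  have hinj : Function.Injective F :=
    ((Fintype.bijective_iff_surjective_and_card F).2 ⟨hsurj, hcard⟩).1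
  set u : fixL := ⟨v, hv⟩
  have h0 : (fun i => (d.repr u i : ZMod 2)) = 0 := hinj (by
    rw [hF]
    show kv v = F 0
    rw [h]
    simp [F])
  refine ⟨(∑ i, (d.repr u i / 2) • d i : fixL).1, ?_⟩
  rw [zero_add, ← AddSubgroup.coe_add]
  refine congrArg Subtype.val (show u = _ from ?_)
  conv_lhs => rw [← d.sum_repr u]
  rw [← Finset.sum_add_distrib]
  refine Finset.sum_congr rfl fun i _ => ?_
  rw [← add_smul]
  congr 1
  have := (ZMod.intCast_zmod_eq_zero_iff_dvd _ 2).1 (congrFun h0 i)
  omega

theorem cg_of_kv {v w : leechLattice} (hv : five • v = v) (hw : five • w = w) (h : kv v = kv w) :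
    Cg v w := by
  have h0 : kv (v - w) = 0 := by
    have := kv_add (v - w) w
    rw [sub_add_cancel, h] at this
    exact (add_eq_right.1 this.symm)
  obtain ⟨u, hu⟩ := kv_fixed_injective (v := v - w) (by
    rw [co0_smul_sub, hv, hw]) h0
  exact ⟨u, by rw [← sub_add_cancel v w, hu]; abel⟩

/-- a fixed class contains a fixed vector -/
theorem exists_fixed_of_class {v : leechLattice} (h : Cg (five • v) v) :
    ∃ w, five • w = w ∧ Cg w v := by
  have hit : ∀ n : ℕ, Cg (five ^ n • v) v := by
    intro n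
    induction n with
    | zero => rw [pow_zero, one_smul]; exact Cg.refl v
    | succ n ih =>
      rw [pow_succ', mul_smul]
      exact (Cg.smul five ih).trans h
  refine ⟨v + five ^ 1 • v + five ^ 2 • v + five ^ 3 • v + five ^ 4 • v, ?_, ?_⟩
  · simp only [co0_smul_add, ← mul_smul, ← pow_succ']
    rw [show five ^ (4 + 1) = 1 from five_pow_five, one_smul]
    simp only [Nat.reduceAdd, pow_one]
    abel
  · obtain ⟨a, ha⟩ := hit 1
    obtain ⟨b, hb⟩ := hit 2
    obtain ⟨c, hc⟩ := hit 3
    obtain ⟨d, hd⟩ := hit 4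
    exact ⟨v + v + (a + b + c + d), by rw [ha, hb, hc, hd]; abel⟩

/-- the index of a class -/
noncomputable def ix (v : leechLattice) : Fin 256 := bitsEquiv.symm (kv v)

theorem bits_ix (v : leechLattice) : bits (ix v).1 = kv v := bitsEquiv.apply_symm_apply (kv v)

theorem ix_cg {v w : leechLattice} (h : Cg v w) : ix v = ix w := by rw [ix, ix, kv_cg h]

theorem ix_Rv (i : Fin 256) : ix (Rv i) = i := bitsEquiv.symm_apply_eq.2 (kv_Rv i)

theorem cg_ix {v : leechLattice} (h : Cg (five • v) v) : Cg v (Rv (ix v)) := by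
  obtain ⟨w, hw, hwv⟩ := exists_fixed_of_class h
  refine hwv.symm.trans (cg_of_kv hw (five_Rv _) ?_)
  rw [kv_Rv, bits_ix, kv_cg hwv]

/-- the fixed classes are the listed ones -/
theorem fixed_class_iff {v : leechLattice} : Cg (five • v) v ↔ ∃ i, Cg v (Rv i) := by
  refine ⟨fun h => ⟨_, cg_ix h⟩, ?_⟩
  rintro ⟨i, hi⟩
  have := Cg.smul five hi
  rw [five_Rv] at this
  exact this.trans hi.symm

theorem Rv_cg_injective {i j : Fin 256} (h : Cg (Rv i) (Rv j)) : i = j := by
  rw [← ix_Rv i, ← ix_Rv j, ix_cg h]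

theorem Rv_zero : Rv 0 = 0 := by
  refine Subtype.ext (funext fun q => ?_)
  have h : ∀ q, dec (repsN.getD 0 0) q = 0 := by decide +kernel
  exact h q

theorem reps_norm : ∀ i : Fin 256, (sixL.contains i.1 = true → sqNorm (dec (repsN.getD i.1 0)) = 64) ∧
    (sixL.contains i.1 = false → i.1 = 0 ∨ sqNorm (dec (repsN.getD i.1 0)) = 32 ∨
      sqNorm (dec (repsN.getD i.1 0)) = 48) := by
  decide +kernel

end Cfsg.Agent.H65.MonsterFive
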