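import Cfsg.Agent.H65.MonsterFive.Wreath
import Cfsg.Agent.H92.Pair
import Cfsg.Agent.H92.QuotOdd
import Cfsg.Agent.H92.ExtraIso
import Cfsg.Agent.Components.PLocal

/-!
In a group of Monster type the centraliser of a five-element of the joint centraliser of two
commuting conjugates of the central involution.
-/

set_option autoImplicit false

namespace Cfsg.Agent.H65.MonsterFive

open Cfsg Cfsg.Agent.Golay Cfsg.Agent.H92.LeechTwo Cfsg.Agent.H92.MonsterQ

section generic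

variable {G : Type*} [Group G] [Finite G]

theorem conj_zpowers {L : Subgroup G} (h25 : ¬ 25 ∣ Nat.card L) {b c : G} (hb : b ∈ L) (hc : c ∈ L)
    (hb5 : orderOf b = 5) (hc5 : orderOf c = 5) :
    ∃ l ∈ L, l * c * l⁻¹ ∈ Subgroup.zpowers b := by
  haveI : Fact (Nat.Prime 5) := ⟨by norm_num⟩
  have mk : ∀ d : L, orderOf (d : G) = 5 → ∃ P : Sylow 5 L, (P : Subgroup L) = Subgroup.zpowers d := by
    intro d hd
    rw [Subgroup.orderOf_coe] at hd
    have hp : IsPGroup 5 (Subgroup.zpowers d) := IsPGroup.of_card (n := 1) (by rw [Nat.card_zpowers, hd, pow_one])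
    have hi : ¬ 5 ∣ (Subgroup.zpowers d).index := fun h => by
      apply h25
      have := (Subgroup.zpowers d).card_mul_index
      rw [Nat.card_zpowers, hd] at this
      rw [← this]
      exact Nat.mul_dvd_mul_left 5 h
    exact ⟨hp.toSylow hi, rfl⟩
  obtain ⟨P, hP⟩ := mk ⟨b, hb⟩ hb5
  obtain ⟨R, hR⟩ := mk ⟨c, hc⟩ hc5
  obtain ⟨l, hl⟩ := MulAction.exists_smul_eq L R P
  refine ⟨l.1, l.2, ?_⟩
  have h1 : (⟨c, hc⟩ : L) ∈ (R : Subgroup L) := hR ▸ Subgroup.mem_zpowers _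
  have h2 : MulAut.conj l ⟨c, hc⟩ ∈ (P : Subgroup L) := by
    rw [← hl, Sylow.coe_subgroup_smul]
    exact Subgroup.smul_mem_pointwise_smul _ _ _ h1
  rw [hP] at h2
  obtain ⟨i, hi⟩ := Subgroup.mem_zpowers_iff.1 h2
  refine Subgroup.mem_zpowers_iff.2 ⟨i, ?_⟩
  exact congrArg (fun u : L => (u : G)) hi

/-- two elements of order five in one coset of a normalised group of order prime to five -/
theorem coset_five {N : Subgroup G} {b c : G} (hb : orderOf b = 5) (hN : ¬ 5 ∣ Nat.card N)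
    (hn : ∀ n ∈ N, b * n * b⁻¹ ∈ N) (hc : orderOf c = 5) (hcb : c * b⁻¹ ∈ N) :
    ∃ n ∈ N, n * c * n⁻¹ = b := by
  classical
  have hbpow : ∀ (k : ℕ), ∀ n ∈ N, b ^ k * n * (b ^ k)⁻¹ ∈ N := by
    intro k
    induction k with
    | zero => intro n hn; simpa using hn
    | succ k ih =>
      intro n hn'
      have := hn _ (ih n hn')
      rwa [show b * (b ^ k * n * (b ^ k)⁻¹) * b⁻¹ = b ^ (k + 1) * n * (b ^ (k + 1))⁻¹ by
        rw [pow_succ']; group] at this
  have hb5 : b ^ 5 = 1 := hb ▸ pow_orderOf_eq_one b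
  let M : Subgroup G :=
    { carrier := {g | ∃ n ∈ N, ∃ k : ℕ, g = n * b ^ k}
      one_mem' := ⟨1, one_mem N, 0, by simp⟩
      mul_mem' := by
        rintro _ _ ⟨n, hn', k, rfl⟩ ⟨m, hm, l, rfl⟩
        refine ⟨n * (b ^ k * m * (b ^ k)⁻¹), mul_mem hn' (hbpow k m hm), k + l, ?_⟩
        rw [pow_add]; group
      inv_mem' := by
        rintro _ ⟨n, hn', k, rfl⟩
        refine ⟨b ^ (4 * k) * n⁻¹ * (b ^ (4 * k))⁻¹, hbpow _ _ (inv_mem hn'), 4 * k, ?_⟩
        have : (b ^ k)⁻¹ = b ^ (4 * k) := by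
          refine inv_eq_of_mul_eq_one_right ?_
          rw [← pow_add, show k + 4 * k = 5 * k by ring, pow_mul, hb5, one_pow]
        rw [mul_inv_rev, this, inv_mul_cancel_right] }
  have hmod : ∀ k : ℕ, b ^ k = b ^ (k % 5) := fun k => by rw [← hb, pow_mod_orderOf]
  have h25 : ¬ 25 ∣ Nat.card M := by
    have hle : Nat.card M ≤ Nat.card N * 5 := by
      have hs : Function.Surjective (fun p : N × Fin 5 =>
          (⟨p.1.1 * b ^ p.2.1, p.1.1, p.1.2, p.2.1, rfl⟩ : M)) := by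
        rintro ⟨g, n, hn', k, rfl⟩
        exact ⟨(⟨n, hn'⟩, ⟨k % 5, Nat.mod_lt _ (by norm_num)⟩), Subtype.ext (by
          show n * b ^ (k % 5) = n * b ^ k
          rw [← hmod])⟩
      have := Nat.card_le_card_of_surjective _ hs
      rwa [Nat.card_prod, Nat.card_eq_fintype_card (α := Fin 5), Fintype.card_fin] at this
    have hNM : N ≤ M := fun n hn' => ⟨n, hn', 0, by simp⟩
    have hbM : b ∈ M := ⟨1, one_mem N, 1, by simp⟩
    have h5 : 5 * Nat.card N ∣ Nat.card M := Nat.Coprime.mul_dvd_of_dvd_of_dvd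
      ((Nat.Prime.coprime_iff_not_dvd (by norm_num)).2 hN)
      (hb ▸ Subgroup.orderOf_dvd_natCard M hbM) (Subgroup.card_dvd_of_le hNM)
    have hM : Nat.card M = 5 * Nat.card N := by
      have := Nat.le_of_dvd Nat.card_pos h5
      omega
    rw [hM]
    intro h
    exact hN (Nat.dvd_of_mul_dvd_mul_left (by norm_num) (show 5 * 5 ∣ 5 * Nat.card N from h))
  have hcM : c ∈ M := ⟨c * b⁻¹, hcb, 1, by simp⟩
  obtain ⟨l, ⟨n, hn', k, rfl⟩, hl⟩ := conj_zpowers h25 (⟨1, one_mem N, 1, by simp⟩ : b ∈ M) hcM hb hc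
  -- strip the power
  refine ⟨(b ^ k)⁻¹ * n * b ^ k, ?_, ?_⟩
  · have : (b ^ k)⁻¹ = b ^ (4 * k) := by
      refine inv_eq_of_mul_eq_one_right ?_
      rw [← pow_add, show k + 4 * k = 5 * k by ring, pow_mul, hb5, one_pow]
    have h := hbpow (4 * k) n hn'
    rwa [← this, inv_inv] at h
  obtain ⟨i, hi⟩ := Subgroup.mem_zpowers_iff.1 hl
  have hib : b ^ i * b⁻¹ ∈ N := by
    rw [hi]
    have e : n * b ^ k * c * (n * b ^ k)⁻¹ * b⁻¹ =
        n * (b ^ k * (c * b⁻¹) * (b ^ k)⁻¹) * (b * n⁻¹ * b⁻¹) := by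
      have hc' : b ^ k * b = b * b ^ k := by rw [← pow_succ, ← pow_succ']
      calc n * b ^ k * c * (n * b ^ k)⁻¹ * b⁻¹
          = n * (b ^ k * (c * b⁻¹) * (b ^ k)⁻¹) * ((b ^ k * b) * (b ^ k)⁻¹ * n⁻¹ * b⁻¹) := by group
        _ = _ := by rw [hc']; group
    rw [e]
    exact mul_mem (mul_mem hn' (hbpow k _ hcb)) (hn _ (inv_mem hn'))
  have hone : b ^ i * b⁻¹ = 1 := by
    rw [← orderOf_eq_one_iff]
    have h1 := Subgroup.orderOf_dvd_natCard N hib
    have h2 : orderOf (b ^ i * b⁻¹) ∣ 5 := by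
      refine orderOf_dvd_of_pow_eq_one ?_
      rw [← zpow_natCast, ← zpow_neg_one b, ← zpow_add, ← zpow_mul, mul_comm, zpow_mul, zpow_natCast,
        hb5, one_zpow]
    rcases (Nat.dvd_prime (by norm_num)).1 h2 with h | h
    · exact h
    · exact absurd (h ▸ h1) hN
  rw [mul_inv_eq_one.1 hone] at hi
  calc (b ^ k)⁻¹ * n * b ^ k * c * ((b ^ k)⁻¹ * n * b ^ k)⁻¹
      = (b ^ k)⁻¹ * (n * b ^ k * c * (n * b ^ k)⁻¹) * b ^ k := by group
    _ = (b ^ k)⁻¹ * b * b ^ k := by rw [← hi]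
    _ = b := by rw [mul_assoc, ← pow_succ', pow_succ, inv_mul_cancel_left]

theorem mem_centralizer_zpowers {b g : G} :
    g ∈ Subgroup.centralizer (Subgroup.zpowers b : Set G) ↔ g * b = b * g := by
  rw [Subgroup.mem_centralizer_iff]
  refine ⟨fun h => (h b (Subgroup.mem_zpowers b)).symm, fun h u hu => ?_⟩
  obtain ⟨i, rfl⟩ := Subgroup.mem_zpowers_iff.1 hu
  exact (((show Commute g b from h).zpow_right i).eq).symm

end generic

variable {G : Type*} [Group G] [Finite G] {z : G}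
  {Q : Subgroup (Subgroup.centralizer ({z} : Set G))} [Q.Normal]
  {e : (Subgroup.centralizer ({z} : Set G)) ⧸ Q ≃* Spor.Co1}
  {ψ : leechLattice → Q ⧸ Subgroup.center Q}

omit [Finite G] in
/-- changing coordinates, keeping track of the identification -/
theorem twist (S : Setting z Q e ψ) (γ : Co0) :
    ∃ (e' : (Subgroup.centralizer ({z} : Set G)) ⧸ Q ≃* Spor.Co1)
      (ψ' : leechLattice → Q ⧸ Subgroup.center Q),
      Setting z Q e' ψ' ∧ (∀ w, ψ' (γ • w) = ψ w) ∧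
      ∀ h, e' h = (QuotientGroup.mk γ : Spor.Co1) * e h * (QuotientGroup.mk γ : Spor.Co1)⁻¹ := by
  refine ⟨e.trans (MulAut.conj (QuotientGroup.mk γ : Spor.Co1)), fun w => ψ (γ⁻¹ • w),
    ⟨S.setting, fun v w => ?_, fun q => ?_, fun v => ?_, ?_⟩, fun w => by simp, fun h => rfl⟩
  · show ψ (γ⁻¹ • (v + w)) = _
    rw [co0_smul_add, S.iso.1]
  · obtain ⟨v, hv⟩ := S.iso.2.1 q
    exact ⟨γ • v, by simpa using hv⟩
  · show ψ (γ⁻¹ • v) = 1 ↔ _
    rw [S.iso.2.2.1]
    constructor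
    · rintro ⟨w, hw⟩
      exact ⟨γ • w, by rw [← co0_smul_add, ← hw, smul_inv_smul]⟩
    · rintro ⟨w, rfl⟩
      exact ⟨γ⁻¹ • w, co0_smul_add _ _ _⟩
  · intro h g hg v q hv
    have hg' : (QuotientGroup.mk (γ⁻¹ * g * γ) : Spor.Co1) = e (QuotientGroup.mk h) := by
      rw [QuotientGroup.mk_mul, QuotientGroup.mk_mul, QuotientGroup.mk_inv, hg]
      simp [MulEquiv.trans_apply, MulAut.conj_apply, mul_assoc]
    have := S.iso.2.2.2 h _ hg' (γ⁻¹ • v) q hv
    rw [← this]
    show ψ (γ⁻¹ • (g • v)) = _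
    congr 1
    simp [mul_smul]

/-- the map onto the isometry group modulo the centre -/
noncomputable def phi (e : (Subgroup.centralizer ({z} : Set G)) ⧸ Q ≃* Spor.Co1) :
    (Subgroup.centralizer ({z} : Set G)) →* Spor.Co1 := e.toMonoidHom.comp (QuotientGroup.mk' Q)

omit [Finite G] in
theorem phi_eq_one {h : Subgroup.centralizer ({z} : Set G)} : phi e h = 1 ↔ h ∈ Q :=
  (map_eq_one_iff e e.injective).trans (QuotientGroup.eq_one_iff h)

theorem classStab_none : classStab (axisVec none) = crossStab := classStab_axis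

theorem lift_axis (S : Setting z Q e ψ) {x : Q} (hx : ψ (axisVec none) = QuotientGroup.mk x) {γ : Co0}
    (hγ : γ ∈ crossStab) :
    ∃ h : Subgroup.centralizer ({z} : Set G),
      phi e h = QuotientGroup.mk γ ∧ (h : G) * vG x = vG x * h := by
  have hxc : x ∉ Subgroup.center Q :=
    not_center_of_rep S hx (Or.inr (Or.inr (Cfsg.Agent.H92.LeechTwo.nrm_axis none)))
  obtain ⟨h, hh⟩ := exists_lift S γ
  have e1 := psi_smul S hh hx
  rw [← classStab_none, mem_classStab] at hγ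
  rw [(psi_cg S).2 hγ, hx] at e1
  obtain ⟨h', h1, h2⟩ := conj_fix S hxc h e1.symm
  have h2' : (h' : G) * vG x * (h' : G)⁻¹ = vG x := congrArg vG h2
  refine ⟨h', ?_, mul_inv_eq_iff_eq_mul.1 h2'⟩
  show e (QuotientGroup.mk h') = _
  rw [h1, ← hh]

/-- the image of the joint centraliser -/
theorem joint_image (S : Setting z Q e ψ) {x : Q} (hx : ψ (axisVec none) = QuotientGroup.mk x) :
    ((Subgroup.centralizer ({z, vG x} : Set G)).subgroupOf (Subgroup.centralizer ({z} : Set G))).map (phi e)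
      = crossStab.map (QuotientGroup.mk' (Subgroup.center Co0)) := by
  ext w
  constructor
  · rintro ⟨h, hh, rfl⟩
    obtain ⟨γ, hγ⟩ := QuotientGroup.mk'_surjective (Subgroup.center Co0) (phi e h)
    refine ⟨γ, ?_, hγ⟩
    have e1 := psi_smul S (g := γ) (h := h) hγ hx
    have hc : (h : G) * vG x = vG x * h :=
      (Subgroup.mem_centralizer_iff.1 (Subgroup.mem_subgroupOf.1 hh) (vG x) (by simp)).symm
    rw [show conjQ h x = x from vG_injective (by
      show (h : G) * vG x * (h : G)⁻¹ = vG x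
      rw [hc, mul_inv_cancel_right]), ← hx, psi_cg S] at e1
    show γ ∈ crossStab
    rw [← classStab_none]
    exact e1
  · rintro ⟨γ, hγ, rfl⟩
    obtain ⟨h, h1, h2⟩ := lift_axis S hx hγ
    refine ⟨h, Subgroup.mem_subgroupOf.2 (Subgroup.mem_centralizer_iff.2 ?_), h1⟩
    rintro u (rfl | rfl)
    · exact (Subgroup.mem_centralizer_singleton_iff.1 h.2).symm
    · exact h2.symm

theorem joint_le (x : Q) :
    Subgroup.centralizer ({z, vG x} : Set G) ≤ Subgroup.centralizer ({z} : Set G) :=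
  Subgroup.centralizer_le (by simp)

theorem joint_card (S : Setting z Q e ψ) {x : Q} (hx : ψ (axisVec none) = QuotientGroup.mk x) :
    5 ∣ Nat.card (Subgroup.centralizer ({z, vG x} : Set G)) ∧
      ¬ 25 ∣ Nat.card (Subgroup.centralizer ({z, vG x} : Set G)) := by
  set L := Subgroup.centralizer ({z, vG x} : Set G)
  have h1 := Cfsg.Agent.H92.MonsterCross.card_map_mul (phi e) (L.subgroupOf (Subgroup.centralizer ({z} : Set G)))
  rw [joint_image S hx, Cfsg.Agent.H92.MonsterCross.card_subgroupOf (joint_le x)] at h1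
  have h2 := Cfsg.Agent.H92.MonsterCross.card_map_mul (QuotientGroup.mk' (Subgroup.center Co0)) crossStab
  rw [QuotientGroup.ker_mk', inf_eq_right.2 (center_le_crossStab.trans signs_le), card_center_co0,
    card_crossStab] at h2
  have hker : Nat.card ↥(L.subgroupOf (Subgroup.centralizer ({z} : Set G)) ⊓ (phi e).ker) ∣ 2 ^ 25 := by
    rw [← S.setting.2.2.2.1]
    exact Subgroup.card_dvd_of_le (fun h hh => phi_eq_one.1 (MonoidHom.mem_ker.1 hh.2))
  obtain ⟨k, hk, hk'⟩ := (Nat.dvd_prime_pow Nat.prime_two).1 hker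
  rw [hk'] at h1
  have h3 : Nat.card ↥(crossStab.map (QuotientGroup.mk' (Subgroup.center Co0))) = 5 * 100279517184 := by omega
  rw [← h1, h3]
  refine ⟨(dvd_mul_right 5 _).trans (dvd_mul_right _ _), fun h => ?_⟩
  have h4 : 25 ∣ 5 * 100279517184 :=
    (Nat.Coprime.pow_right k (by norm_num : Nat.Coprime 25 2)).dvd_of_dvd_mul_right h
  norm_num at h4

end Cfsg.Agent.H65.MonsterFive
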