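import Cfsg.Agent.H65.MonsterFive.Data
import Cfsg.Agent.H92.CrossGroup

/-!
The centraliser in the Mathieu group of degree 24 of an element of shape 1^4 5^4 has at most sixty
elements.
-/

set_option autoImplicit false

namespace Cfsg.Agent.H65.MonsterFive

open Cfsg Cfsg.Agent.Golay
open scoped Pointwise

theorem tauT_ok : inM24 tauT = true := by decide +kernel

/-- the element of order five -/
noncomputable def tau : M24 := ⟨mkPerm tauT, mem_M24_of_inM24 tauT_ok⟩

/-- its action on the points -/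
def tauF : GolayPt → GolayPt := tblFun tauT

theorem tau_apply (q : GolayPt) : tau.1 q = tauF q := mkPerm_apply (validT_of_inM24 tauT_ok) q

/-- a fixed point -/
def fxp (j : Fin 4) : GolayPt := pt (fxL.getD j.1 0)

/-- a point in a cycle -/
def rp (l : Fin 4) : GolayPt := pt (repL.getD l.1 0)

/-- the fixed points as a mask -/
def fxM : ℕ := fxL.foldl (fun acc i => acc ||| 2 ^ i) 0

/-- a cycle as a mask -/
def cycM (l : Fin 4) : ℕ := cycL.getD l.1 0

/-- three fixed points and a cycle -/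
def octM (j l : Fin 4) : ℕ := (fxM ^^^ 2 ^ fxL.getD j.1 0) ||| cycM l

theorem tauF_facts :
    (∀ j, tauF (fxp j) = fxp j) ∧
    (∀ q, tauF q = q → ∃ j, q = fxp j) ∧
    (∀ j j', fxp j = fxp j' → j = j') ∧
    (∀ l l' : Fin 4, ∀ n n' : Fin 5, tauF^[n.1] (rp l) = tauF^[n'.1] (rp l') → l = l' ∧ n = n') ∧
    (∀ q, (∃ j, q = fxp j) ∨ ∃ l, ∃ n : Fin 5, q = tauF^[n.1] (rp l)) ∧
    (∀ q, tauF^[5] q = q) := by
  decide +kernel

theorem octM_mem : ∀ (q : GolayPt) (j l : Fin 4), q ∈ ptSet (octM j l) ↔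
    (∃ i, i ≠ j ∧ q = fxp i) ∨ ∃ n : Fin 5, q = tauF^[n.1] (rp l) := by
  decide +kernel

theorem octM_facts : ∀ j l : Fin 4, popCnt (octM j l) = 8 ∧ octM j l < 2 ^ 24 ∧
    (inCode (octM j l) = true ↔ l = j) := by
  decide +kernel

theorem mem_nine : ∀ (q : GolayPt) (l : Fin 4), q ∈ ptSet (fxM ||| cycM l) ↔
    (∃ i, q = fxp i) ∨ ∃ n : Fin 5, q = tauF^[n.1] (rp l) := by
  decide +kernel

/-- two fixed points and two cycles -/
def twelveM : ℕ := 2 ^ fxL.getD 2 0 ||| 2 ^ fxL.getD 3 0 ||| cycM 2 ||| cycM 3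

theorem mem_twelve : ∀ q : GolayPt, q ∈ ptSet twelveM ↔
    (q = fxp 2 ∨ q = fxp 3) ∨ ∃ n : Fin 5, q = tauF^[n.1] (rp 2) ∨ q = tauF^[n.1] (rp 3) := by
  decide +kernel

theorem trivial_stabs : (∀ l : Fin 4, isTrivialStab [] (fxM ||| cycM l) = true) ∧
    isTrivialStab [] twelveM = true := by
  decide +kernel

/-- an element of the code group is determined by the image of a large enough set -/
theorem perm_eq_of_agree {m : ℕ} (h : isTrivialStab [] m = true) {a b : M24}
    (hab : ∀ q ∈ ptSet m, a.1 q = b.1 q) : a = b := by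
  have : (b⁻¹ * a : M24).1 ∈ stabGrp [] m := by
    refine ⟨(b⁻¹ * a).2, by simp, fun q hq => ?_⟩
    show b.1.symm (a.1 q) = q
    rw [hab q hq, Equiv.symm_apply_apply]
  rw [stabGrp_eq_bot' h, Subgroup.mem_bot] at this
  exact (inv_mul_eq_one.1 (Subtype.ext this)).symm

/-- the centraliser -/
noncomputable def centTau : Subgroup M24 := Subgroup.centralizer {tau}

theorem commute_tauF {σ : M24} (h : σ ∈ centTau) (q : GolayPt) : σ.1 (tauF q) = tauF (σ.1 q) := by
  rw [← tau_apply, ← tau_apply]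
  exact congrFun (congrArg (fun u : M24 => (u.1 : GolayPt → GolayPt))
    (Subgroup.mem_centralizer_singleton_iff.1 h)) q

theorem commute_iter {σ : M24} (h : σ ∈ centTau) (n : ℕ) (q : GolayPt) :
    σ.1 (tauF^[n] q) = tauF^[n] (σ.1 q) :=
  (Function.Semiconj.iterate_right (fun q => commute_tauF h q) n).eq q

theorem exists_fix_image {σ : M24} (h : σ ∈ centTau) (j : Fin 4) : ∃ i, σ.1 (fxp j) = fxp i := by
  refine tauF_facts.2.1 _ ?_
  rw [← commute_tauF h, tauF_facts.1]

/-- the action on the fixed points -/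
noncomputable def fixMap (σ : centTau) (j : Fin 4) : Fin 4 := (exists_fix_image σ.2 j).choose

theorem fixMap_spec (σ : centTau) (j : Fin 4) : σ.1.1 (fxp j) = fxp (fixMap σ j) :=
  (exists_fix_image σ.2 j).choose_spec

theorem fixMap_mul (a b : centTau) (j : Fin 4) : fixMap (a * b) j = fixMap a (fixMap b j) := by
  refine tauF_facts.2.2.1 _ _ ?_
  rw [← fixMap_spec, ← fixMap_spec, ← fixMap_spec]
  rfl

theorem fixMap_one (j : Fin 4) : fixMap 1 j = j :=
  tauF_facts.2.2.1 _ _ ((fixMap_spec 1 j).symm.trans rfl)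

/-- the action on the fixed points as a homomorphism -/
noncomputable def fixHom : centTau →* Equiv.Perm (Fin 4) := MonoidHom.mk'
  (fun σ => ⟨fixMap σ, fixMap σ⁻¹,
    fun j => by rw [← fixMap_mul, inv_mul_cancel, fixMap_one],
    fun j => by rw [← fixMap_mul, mul_inv_cancel, fixMap_one]⟩)
  fun a b => Equiv.ext fun j => fixMap_mul a b j

theorem fixHom_apply (σ : centTau) (j : Fin 4) : fixHom σ j = fixMap σ j := rfl

theorem cycle_image (σ : centTau) (k : Fin 4) :
    ∃ n : Fin 5, σ.1.1 (rp k) = tauF^[n.1] (rp (fixMap σ k)) := by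
  rcases tauF_facts.2.2.2.2.1 (σ.1.1 (rp k)) with ⟨j, hj⟩ | ⟨l, n, hn⟩
  · exfalso
    obtain ⟨i, hi⟩ : ∃ i, fixMap σ i = j := (fixHom σ).surjective j
    have h : σ.1.1 (rp k) = σ.1.1 (fxp i) := by rw [fixMap_spec, hi, hj]
    have hr : ∀ (i k : Fin 4), rp k ≠ fxp i := by decide +kernel
    exact hr i k (σ.1.1.injective h)
  · refine ⟨n, ?_⟩
    suffices hl : l = fixMap σ k by rw [hn, hl]
    set O := ptSet (octM k k)
    have hsub : σ.1.1 • O ⊆ ptSet (octM (fixMap σ k) l) := by
      intro q hq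
      obtain ⟨p, hp, rfl⟩ := Finset.mem_smul_finset.1 hq
      rw [Equiv.Perm.smul_def]
      rcases (octM_mem p k k).1 hp with ⟨i, hik, rfl⟩ | ⟨a, rfl⟩
      · exact (octM_mem _ _ _).2 (Or.inl ⟨_, fun e => hik ((fixHom σ).injective e), fixMap_spec σ i⟩)
      · refine (octM_mem _ _ _).2 (Or.inr ⟨a + n, ?_⟩)
        rw [commute_iter σ.2, hn, ← Function.iterate_add_apply]
        have e : ∀ (a n : Fin 5) (l : Fin 4), tauF^[a.1 + n.1] (rp l) = tauF^[(a + n).1] (rp l) := by
          decide +kernel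
        exact e a n l
    have heq : σ.1.1 • O = ptSet (octM (fixMap σ k) l) := by
      refine Finset.eq_of_subset_of_card_le hsub ?_
      rw [Finset.card_smul_finset, card_ptSet, card_ptSet, (octM_facts _ _).1, (octM_facts _ _).1]
    have hcode : O ∈ supports (golayCode : Set (GolayPt → ZMod 2)) :=
      (ptSet_mem_supports_iff (octM_facts k k).2.1).2 (inCode_iff.1 ((octM_facts k k).2.2.2 rfl))
    have h2 := smul_mem_supports σ.1.2 hcode
    rw [heq] at h2
    exact (octM_facts _ l).2.2.1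
      (inCode_iff.2 ((ptSet_mem_supports_iff (octM_facts _ l).2.1).1 h2))

theorem agree_nine {σ σ' : centTau} {k : Fin 4} (hf : fixHom σ = fixHom σ')
    (hk : σ.1.1 (rp k) = σ'.1.1 (rp k)) : σ = σ' := by
  refine Subtype.ext (perm_eq_of_agree (trivial_stabs.1 k) fun q hq => ?_)
  rcases (mem_nine q k).1 hq with ⟨i, rfl⟩ | ⟨n, rfl⟩
  · rw [fixMap_spec, fixMap_spec, ← fixHom_apply, ← fixHom_apply, hf]
  · rw [commute_iter σ.2, commute_iter σ'.2, hk]

theorem tau_mem : tau ∈ centTau := Subgroup.mem_centralizer_singleton_iff.2 rfl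

theorem tau_pow_apply (n : ℕ) (q : GolayPt) : (tau ^ n).1 q = tauF^[n] q := by
  induction n with
  | zero => rfl
  | succ n ih =>
    rw [pow_succ', Function.iterate_succ_apply', ← ih, ← tau_apply]
    rfl

theorem fixHom_ne_swap (σ : centTau) : fixHom σ ≠ Equiv.swap 0 1 := by
  intro h
  have h2 : fixMap σ 2 = 2 := by rw [← fixHom_apply, h]; decide
  have h3 : fixMap σ 3 = 3 := by rw [← fixHom_apply, h]; decide
  obtain ⟨a, ha⟩ := cycle_image σ 2
  obtain ⟨b, hb⟩ := cycle_image σ 3
  rw [h2] at ha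
  rw [h3] at hb
  set u : centTau := ⟨tau, tau_mem⟩
  have hu : fixHom u = 1 := Equiv.ext fun j => tauF_facts.2.2.1 _ _ (by
    show fxp (fixMap u j) = fxp j
    rw [← fixMap_spec]
    exact (tau_apply _).trans (tauF_facts.1 j))
  have hsq : σ * σ = u ^ (a.1 + a.1) := by
    refine agree_nine (k := 2) ?_ ?_
    · rw [map_mul, map_pow, hu, one_pow, h, Equiv.swap_mul_self]
    · rw [SubmonoidClass.coe_pow, tau_pow_apply]
      show σ.1.1 (σ.1.1 (rp 2)) = _
      rw [ha, commute_iter σ.2, ha, ← Function.iterate_add_apply]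
  have hb2 : tauF^[b.1 + b.1] (rp 3) = tauF^[a.1 + a.1] (rp 3) := by
    have := congrArg (fun v : centTau => v.1.1 (rp 3)) hsq
    change σ.1.1 (σ.1.1 (rp 3)) = ((u ^ (a.1 + a.1) : centTau).1).1 (rp 3) at this
    rw [SubmonoidClass.coe_pow, tau_pow_apply] at this
    rw [← this, hb, commute_iter σ.2, hb, ← Function.iterate_add_apply]
  have hab : a = b := by
    have : ∀ a b : Fin 5, tauF^[b.1 + b.1] (rp 3) = tauF^[a.1 + a.1] (rp 3) → a = b := by
      decide +kernel
    exact this a b hb2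
  subst hab
  have : σ.1 = tau ^ a.1 := by
    refine perm_eq_of_agree trivial_stabs.2 fun q hq => ?_
    rw [tau_pow_apply]
    rcases (mem_twelve q).1 hq with (rfl | rfl) | ⟨n, rfl | rfl⟩
    · rw [fixMap_spec, h2, Function.iterate_fixed (tauF_facts.1 _)]
    · rw [fixMap_spec, h3, Function.iterate_fixed (tauF_facts.1 _)]
    · rw [commute_iter σ.2, ha, ← Function.iterate_add_apply, ← Function.iterate_add_apply, add_comm]
    · rw [commute_iter σ.2, hb, ← Function.iterate_add_apply, ← Function.iterate_add_apply, add_comm]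
  have h1 : fixHom σ = 1 := by
    rw [show σ = u ^ a.1 from Subtype.ext (this.trans (SubmonoidClass.coe_pow u a.1).symm), map_pow, hu,
      one_pow]
  rw [h1] at h
  exact absurd (congrArg (fun p : Equiv.Perm (Fin 4) => p 0) h) (by decide)

theorem card_range_fixHom : Nat.card fixHom.range ≤ 12 := by
  have hne : fixHom.range ≠ ⊤ := fun h => by
    obtain ⟨σ, hσ⟩ : Equiv.swap (0 : Fin 4) 1 ∈ fixHom.range := h ▸ Subgroup.mem_top _
    exact fixHom_ne_swap σ hσ
  have h1 := fixHom.range.card_mul_index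
  have h2 : fixHom.range.index ≠ 1 := fun h => hne (Subgroup.index_eq_one.1 h)
  have h3 : Nat.card (Equiv.Perm (Fin 4)) = 24 := by
    rw [Nat.card_perm, Nat.card_eq_fintype_card, Fintype.card_fin]; rfl
  rw [h3] at h1
  rcases Nat.lt_or_ge fixHom.range.index 2 with h | h
  · exfalso
    interval_cases hi : fixHom.range.index <;> simp_all
  · have := Nat.mul_le_mul_left (Nat.card fixHom.range) h
    omega

theorem card_centTau : Nat.card centTau ≤ 60 := by
  have hinj : Function.Injective (fun σ : centTau =>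
      ((⟨fixHom σ, σ, rfl⟩ : fixHom.range), (cycle_image σ 0).choose)) := by
    intro σ σ' h
    have h1 : fixHom σ = fixHom σ' := congrArg (fun p => (p.1 : Equiv.Perm (Fin 4))) h
    have h2 : (cycle_image σ 0).choose = (cycle_image σ' 0).choose := congrArg Prod.snd h
    refine agree_nine (k := 0) h1 ?_
    have e := (cycle_image σ 0).choose_spec
    have e' := (cycle_image σ' 0).choose_spec
    rw [h2] at e
    exact e.trans (Eq.trans (congrArg (fun i => tauF^[((cycle_image σ' 0).choose).1] (rp i))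
      (show fixMap σ 0 = fixMap σ' 0 by rw [← fixHom_apply, ← fixHom_apply, h1])) e'.symm)
  have := Nat.card_le_card_of_injective _ hinj
  rw [Nat.card_prod, Nat.card_eq_fintype_card (α := Fin 5), Fintype.card_fin] at this
  have := card_range_fixHom
  omega

end Cfsg.Agent.H65.MonsterFive
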