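import Cfsg.Agent.H65.MonsterFive.Group

/-!
An element centralising the five-element that moves the central involution to its conjugate.
-/

set_option autoImplicit false
set_option maxRecDepth 100000

namespace Cfsg.Agent.H65.MonsterFive

open Cfsg Cfsg.Agent.Golay Cfsg.Agent.H92.LeechTwo Cfsg.Agent.H92.MonsterQ

theorem sqT_ok : inM24 sqT = true := by decide +kernel

/-- a permutation carrying the five-element to its square -/
noncomputable def sqPerm : M24 := ⟨mkPerm sqT, mem_M24_of_inM24 sqT_ok⟩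

theorem sqPerm_conj : sqPerm * tau * sqPerm⁻¹ = tau ^ 2 := by
  rw [mul_inv_eq_iff_eq_mul]
  refine Subtype.ext (Equiv.ext fun q => ?_)
  show sqPerm.1 (tau.1 q) = (tau ^ 2).1 (sqPerm.1 q)
  rw [tau_pow_apply, tau_apply, sqPerm]
  simp only [mkPerm_apply (validT_of_inM24 sqT_ok)]
  have h : ∀ q, pt (app sqT (idx (tauF q))) = tauF^[2] (pt (app sqT (idx q))) := by decide +kernel
  exact h q

variable {G : Type*} [Group G] [Finite G] {z : G}
  {Q : Subgroup (Subgroup.centralizer ({z} : Set G))} [Q.Normal]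
  {e : (Subgroup.centralizer ({z} : Set G)) ⧸ Q ≃* Spor.Co1}
  {ψ : leechLattice → Q ⧸ Subgroup.center Q}

theorem qm_facts (S : Setting z Q e ψ) :
    let Qm := Q.map (Subgroup.centralizer ({z} : Set G)).subtype
    IsExtraspecial 2 Qm ∧ Nat.card Qm = 2 ^ 25 ∧ z ∈ (Subgroup.center Qm).map Qm.subtype ∧
      Subgroup.centralizer (Qm : Set G) = (Subgroup.center Qm).map Qm.subtype ∧
      Subgroup.centralizer (((Subgroup.center Qm).map Qm.subtype : Subgroup G) : Set G) ≤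
        Subgroup.normalizer (Qm : Set G) := by
  intro Qm
  obtain ⟨h1, h2, -, h4⟩ := Cfsg.Agent.H92.centralizer_setting
    (Q := Qm) (Subgroup.map_subtype_le _) (by rw [S.setting.2.1])
  refine ⟨Cfsg.Agent.H92.isExtraspecial_of_mulEquiv
    (Q.equivMapOfInjective _ Subtype.val_injective) S.setting.2.2.1, ?_, h1, h2, h4⟩
  rw [Subgroup.card_map_of_injective Subtype.val_injective, S.setting.2.2.2.1]

theorem orderOf_conj_eq (a b : G) : orderOf (a * b * a⁻¹) = orderOf b :=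
  (MulAut.conj a).orderOf_eq b

/-- the element moving the central involution inside the centraliser -/
theorem exists_mover (S : Setting z Q e ψ) {x : Q} (hx : ψ (axisVec none) = QuotientGroup.mk x)
    {b : G} (hb5 : orderOf b = 5) (hbz : b ∈ Subgroup.centralizer ({z} : Set G))
    (hbs : b * vG x = vG x * b) (hbe : phi e ⟨b, hbz⟩ = QuotientGroup.mk five) :
    ∃ g : G, g * b = b * g ∧ g * z * g⁻¹ = vG x := by
  classical
  obtain ⟨hex, hQcard, hzc, hcen, hnorm⟩ := qm_facts S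
  set Qm := Q.map (Subgroup.centralizer ({z} : Set G)).subtype with hQm
  obtain ⟨zQ, hzv, hz1, -, -⟩ := exists_zQ S
  obtain ⟨hc, hne⟩ := isConj_of_type S hx (Cfsg.Agent.H92.LeechTwo.nrm_axis none)
  obtain ⟨g0, hg0⟩ := isConj_iff.1 hc
  have hzne : z ≠ 1 := fun h => hz1 (vG_injective (hzv.trans h))
  have hP : Cfsg.Agent.H92.PairSetting Qm z g0 := ⟨hex, hcen, hnorm, hzc, hzne,
    hg0 ▸ ⟨_, x.2, rfl⟩, hg0 ▸ hne, by rw [hQcard]; norm_num⟩
  obtain ⟨k, hk1, hk2⟩ := hP.exists_swap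
  rw [hg0] at hk1 hk2
  set L := Subgroup.centralizer ({z, vG x} : Set G) with hL
  have memL : ∀ u : G, u ∈ L ↔ u * z = z * u ∧ u * vG x = vG x * u := by
    intro u
    rw [hL, Subgroup.mem_centralizer_iff]
    constructor
    · intro h; exact ⟨(h z (by simp)).symm, (h _ (by simp)).symm⟩
    · rintro ⟨h1, h2⟩ w (rfl | rfl)
      · exact h1.symm
      · exact h2.symm
  have hbz' := Subgroup.mem_centralizer_singleton_iff.1 hbz
  have hbL : b ∈ L := (memL b).2 ⟨hbz', hbs⟩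
  have hcL : k * b * k⁻¹ ∈ L := (memL _).2
    ⟨by
      calc k * b * k⁻¹ * z = k * b * k⁻¹ * (k * vG x * k⁻¹) := by rw [hk2]
        _ = k * (b * vG x) * k⁻¹ := by group
        _ = (k * vG x * k⁻¹) * (k * b * k⁻¹) := by rw [hbs]; group
        _ = z * (k * b * k⁻¹) := by rw [hk2],
    by
      calc k * b * k⁻¹ * vG x = k * b * k⁻¹ * (k * z * k⁻¹) := by rw [hk1]
        _ = k * (b * z) * k⁻¹ := by group
        _ = (k * z * k⁻¹) * (k * b * k⁻¹) := by rw [hbz']; group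
        _ = vG x * (k * b * k⁻¹) := by rw [hk1]⟩
  obtain ⟨l, hlL, hlb⟩ := conj_zpowers (joint_card S hx).2 hbL hcL hb5 ((orderOf_conj_eq k b).trans hb5)
  -- a lift of the squaring permutation
  obtain ⟨h, hh1, hh2⟩ := lift_axis S hx (permAut_mem sqPerm)
  set N := Qm ⊓ Subgroup.centralizer ({vG x} : Set G) with hN
  have hQmconj : ∀ c ∈ Subgroup.centralizer ({z} : Set G), ∀ n ∈ Qm, c * n * c⁻¹ ∈ Qm :=
    fun c hc n hn => (map_setting S).2 n hn c hc
  have hn : ∀ n ∈ N, b ^ 2 * n * (b ^ 2)⁻¹ ∈ N := by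
    rintro n ⟨hn1, hn2⟩
    refine ⟨hQmconj _ (pow_mem hbz 2) _ hn1, ?_⟩
    have hb2 : b ^ 2 ∈ Subgroup.centralizer ({vG x} : Set G) :=
      pow_mem (Subgroup.mem_centralizer_singleton_iff.2 hbs) 2
    show b ^ 2 * n * (b ^ 2)⁻¹ ∈ Subgroup.centralizer ({vG x} : Set G)
    exact mul_mem (mul_mem hb2 hn2) (inv_mem hb2)
  have hN5 : ¬ 5 ∣ Nat.card N := by
    intro h5
    have h := h5.trans (Subgroup.card_dvd_of_le (inf_le_left : N ≤ Qm))
    rw [hQcard] at h
    norm_num at h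
  have hcoset : (h : G) * b * (h : G)⁻¹ * (b ^ 2)⁻¹ ∈ N := by
    refine ⟨?_, ?_⟩
    · refine ⟨h * ⟨b, hbz⟩ * h⁻¹ * (⟨b, hbz⟩ ^ 2)⁻¹, ?_, rfl⟩
      refine phi_eq_one (e := e) |>.1 ?_
      rw [map_mul, map_mul, map_mul, map_inv, map_inv, map_pow, hh1, hbe, five_eq,
        show permAut sqPerm = permHom sqPerm from rfl, show permAut tau = permHom tau from rfl]
      rw [← QuotientGroup.mk_inv, ← QuotientGroup.mk_mul, ← QuotientGroup.mk_mul, ← QuotientGroup.mk_pow,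
        ← map_inv, ← map_mul, ← map_mul, sqPerm_conj, ← map_pow, mul_inv_cancel]
    · have hxm : ∀ u : G, u * vG x = vG x * u → u ∈ Subgroup.centralizer ({vG x} : Set G) :=
        fun u hu => Subgroup.mem_centralizer_singleton_iff.2 hu
      show (h : G) * b * (h : G)⁻¹ * (b ^ 2)⁻¹ ∈ Subgroup.centralizer ({vG x} : Set G)
      exact mul_mem (mul_mem (mul_mem (hxm _ hh2) (hxm _ hbs)) (inv_mem (hxm _ hh2)))
        (inv_mem (pow_mem (hxm _ hbs) 2))
  have hb2 : orderOf (b ^ 2) = 5 := by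
    rw [orderOf_pow, hb5]; decide
  obtain ⟨n, hnN, hnb⟩ := coset_five hb2 hN5 hn ((orderOf_conj_eq _ b).trans hb5) hcoset
  set ν := n * (h : G) with hν
  have hνL : ν ∈ L := (memL ν).2
    ⟨Subgroup.mem_centralizer_singleton_iff.1 (mul_mem (Subgroup.map_subtype_le _ hnN.1) h.2),
      Subgroup.mem_centralizer_singleton_iff.1
        (mul_mem hnN.2 (Subgroup.mem_centralizer_singleton_iff.2 hh2))⟩
  have hν2 : ν * b * ν⁻¹ = b ^ 2 := by
    rw [← hnb, hν]; group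
  have hνpow : ∀ j : ℕ, ν ^ j * b * (ν ^ j)⁻¹ = b ^ 2 ^ j := by
    intro j
    induction j with
    | zero => simp
    | succ j ih =>
      calc ν ^ (j + 1) * b * (ν ^ (j + 1))⁻¹ = ν * (ν ^ j * b * (ν ^ j)⁻¹) * ν⁻¹ := by
            rw [pow_succ']; group
        _ = (ν * b * ν⁻¹) ^ 2 ^ j := by rw [ih, conj_pow]
        _ = b ^ 2 ^ (j + 1) := by rw [hν2, ← pow_mul, ← pow_succ']
  -- the exponent
  set k' := l * k with hk'
  have hk'b : k' * b * k'⁻¹ ∈ Subgroup.zpowers b := by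
    rw [show k' * b * k'⁻¹ = l * (k * b * k⁻¹) * l⁻¹ by rw [hk']; group]; exact hlb
  rw [mem_zpowers_iff_mem_range_orderOf, hb5, Finset.mem_image] at hk'b
  obtain ⟨i, hi5, hi⟩ := hk'b
  rw [Finset.mem_range] at hi5
  obtain ⟨j, hj⟩ : ∃ j, 2 ^ j * i % 5 = 1 := by
    have hi0 : i ≠ 0 := by
      rintro rfl
      have := orderOf_conj_eq k' b
      rw [← hi, pow_zero, orderOf_one, hb5] at this
      norm_num at this
    obtain rfl | rfl | rfl | rfl : i = 1 ∨ i = 2 ∨ i = 3 ∨ i = 4 := by omega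
    exacts [⟨0, rfl⟩, ⟨3, rfl⟩, ⟨1, rfl⟩, ⟨2, rfl⟩]
  refine ⟨ν ^ j * k', ?_, ?_⟩
  · have e1 : ν ^ j * k' * b * (ν ^ j * k')⁻¹ = b := by
      calc ν ^ j * k' * b * (ν ^ j * k')⁻¹ = ν ^ j * (k' * b * k'⁻¹) * (ν ^ j)⁻¹ := by group
        _ = (ν ^ j * b * (ν ^ j)⁻¹) ^ i := by rw [← hi, conj_pow]
        _ = b ^ (2 ^ j * i) := by rw [hνpow, ← pow_mul]
        _ = b := by rw [← pow_mod_orderOf, hb5, hj, pow_one]
    exact mul_inv_eq_iff_eq_mul.1 e1
  · have hu := ((memL _).1 (mul_mem (pow_mem hνL j) hlL)).2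
    calc ν ^ j * k' * z * (ν ^ j * k')⁻¹ = ν ^ j * l * (k * z * k⁻¹) * (ν ^ j * l)⁻¹ := by
          rw [hk']; group
      _ = vG x := by rw [hk1, hu, mul_inv_cancel_right]

end Cfsg.Agent.H65.MonsterFive
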