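import Cfsg.Agent.H65.MonsterFive.Cent
import Cfsg.Agent.H92.MonsterCross

/-!
The centraliser of an element of shape 1^4 5^4 modulo that element and the centre is the wreath
product of the alternating group of degree five by a group of order two.
-/

set_option autoImplicit false
set_option maxRecDepth 100000

namespace Cfsg.Agent.H65.MonsterFive

open Cfsg Cfsg.Agent.Golay Cfsg.Agent.H92.LeechTwo

/-- the first factor -/
def inlHom : alternatingGroup (Fin 5) →* Equiv.Perm (Fin 5 ⊕ Fin 5) := MonoidHom.mk'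
  (fun σ => Equiv.Perm.sumCongr σ.1 1) fun σ τ => Equiv.ext fun x => by cases x <;> rfl

/-- the second factor -/
def inrHom : alternatingGroup (Fin 5) →* Equiv.Perm (Fin 5 ⊕ Fin 5) := MonoidHom.mk'
  (fun σ => Equiv.Perm.sumCongr 1 σ.1) fun σ τ => Equiv.ext fun x => by cases x <;> rfl

theorem inl_mem (σ : alternatingGroup (Fin 5)) : inlHom σ ∈ alternatingFiveWreathTwo :=
  Subgroup.subset_closure (Or.inl ⟨σ, 1, rfl⟩)

theorem inr_mem (σ : alternatingGroup (Fin 5)) : inrHom σ ∈ alternatingFiveWreathTwo :=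
  Subgroup.subset_closure (Or.inl ⟨1, σ, rfl⟩)

theorem swap_mem : Equiv.sumComm (Fin 5) (Fin 5) ∈ alternatingFiveWreathTwo :=
  Subgroup.subset_closure (Or.inr rfl)

theorem wreath_le {H : Subgroup (Equiv.Perm (Fin 5 ⊕ Fin 5))} (h1 : ∀ σ, inlHom σ ∈ H)
    (h2 : Equiv.sumComm (Fin 5) (Fin 5) ∈ H) : alternatingFiveWreathTwo ≤ H := by
  refine (Subgroup.closure_le H).2 ?_
  rintro g (⟨σ, τ, rfl⟩ | rfl)
  · have : Equiv.Perm.sumCongr (σ : Equiv.Perm (Fin 5)) (τ : Equiv.Perm (Fin 5)) =
        inlHom σ * (Equiv.sumComm (Fin 5) (Fin 5) * inlHom τ * Equiv.sumComm (Fin 5) (Fin 5)) :=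
      Equiv.ext fun x => by cases x <;> rfl
    rw [this]
    exact mul_mem (h1 σ) (mul_mem (mul_mem h2 (h1 τ)) h2)
  · exact h2

theorem card_alt : Nat.card (alternatingGroup (Fin 5)) = 60 := by
  have := two_mul_nat_card_alternatingGroup (α := Fin 5)
  rw [Nat.card_perm, Nat.card_eq_fintype_card (α := Fin 5), Fintype.card_fin] at this
  rw [show Nat.factorial 5 = 120 from rfl] at this
  omega

theorem card_wreath_ge : 7200 ≤ Nat.card alternatingFiveWreathTwo := by
  let f : alternatingGroup (Fin 5) × alternatingGroup (Fin 5) × Bool → alternatingFiveWreathTwo :=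
    fun p => ⟨inlHom p.1 * inrHom p.2.1 * (bif p.2.2 then Equiv.sumComm (Fin 5) (Fin 5) else 1),
      mul_mem (mul_mem (inl_mem _) (inr_mem _))
        (by cases p.2.2 <;> first | exact one_mem _ | exact swap_mem)⟩
  have hf : Function.Injective f := by
    rintro ⟨σ, τ, b⟩ ⟨σ', τ', b'⟩ h
    have h' : ∀ x, (f (σ, τ, b)).1 x = (f (σ', τ', b')).1 x := fun x => by rw [h]
    have e1 := h' (Sum.inl 0)
    cases b <;> cases b' <;> simp [f, inlHom, inrHom] at e1
    all_goals
      have ea : ∀ i, (σ : Equiv.Perm (Fin 5)) i = (σ' : Equiv.Perm (Fin 5)) i := fun i => by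
        first
          | simpa [f, inlHom, inrHom] using h' (Sum.inl i)
          | simpa [f, inlHom, inrHom] using h' (Sum.inr i)
      have eb : ∀ i, (τ : Equiv.Perm (Fin 5)) i = (τ' : Equiv.Perm (Fin 5)) i := fun i => by
        first
          | simpa [f, inlHom, inrHom] using h' (Sum.inr i)
          | simpa [f, inlHom, inrHom] using h' (Sum.inl i)
      simp only [Prod.mk.injEq]
      exact ⟨Subtype.ext (Equiv.ext ea), Subtype.ext (Equiv.ext eb), trivial⟩
  have := Nat.card_le_card_of_injective f hf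
  rw [Nat.card_prod, Nat.card_prod, card_alt, Nat.card_eq_fintype_card (α := Bool), Fintype.card_bool] at this
  omega

theorem centraliser_alt : ∀ σ : Equiv.Perm (Fin 5),
    (∀ i, σ (![1, 2, 3, 4, 0] i) = ![1, 2, 3, 4, 0] (σ i)) →
    (∀ i, σ (![1, 2, 0, 3, 4] i) = ![1, 2, 0, 3, 4] (σ i)) → ∀ i, σ i = i := by
  decide +kernel

/-- a five-cycle -/
def cycA : alternatingGroup (Fin 5) :=
  ⟨Equiv.swap 0 1 * Equiv.swap 1 2 * Equiv.swap 2 3 * Equiv.swap 3 4,
    Equiv.Perm.mem_alternatingGroup.2 (by simp [map_mul, Equiv.Perm.sign_swap])⟩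

/-- a three-cycle -/
def cycB : alternatingGroup (Fin 5) :=
  ⟨Equiv.swap 0 1 * Equiv.swap 1 2,
    Equiv.Perm.mem_alternatingGroup.2 (by simp [map_mul, Equiv.Perm.sign_swap])⟩

theorem cyc_apply : (∀ i, cycA.1 i = ![1, 2, 3, 4, 0] i) ∧ ∀ i, cycB.1 i = ![1, 2, 0, 3, 4] i := by
  decide +kernel

theorem alt_words : ∀ σ : Equiv.Perm (Fin 5), Equiv.Perm.sign σ = 1 →
    ∃ w ∈ altW, ∀ i : Fin 5, σ i =
      List.foldl (fun x a => bif a == 0 then ![1, 2, 3, 4, 0] x else ![1, 2, 0, 3, 4] x) i w := by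
  decide +kernel

theorem alt_le {H : Subgroup (alternatingGroup (Fin 5))} (ha : cycA ∈ H) (hb : cycB ∈ H)
    (σ : alternatingGroup (Fin 5)) : σ ∈ H := by
  obtain ⟨w, -, hw⟩ := alt_words σ.1 (Equiv.Perm.mem_alternatingGroup.1 σ.2)
  have key : ∀ w : List ℕ, ∃ g ∈ H, ∀ i : Fin 5, g.1 i =
      List.foldl (fun x a => bif a == 0 then ![1, 2, 3, 4, 0] x else ![1, 2, 0, 3, 4] x) i w := by
    intro w
    induction w with
    | nil => exact ⟨1, one_mem H, fun i => rfl⟩
    | cons a r ih =>
      obtain ⟨g, hg, hgi⟩ := ih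
      by_cases h0 : a = 0
      · refine ⟨g * cycA, mul_mem hg ha, fun i => ?_⟩
        show g.1 (cycA.1 i) = _
        rw [hgi, cyc_apply.1, List.foldl_cons, beq_iff_eq.2 h0, cond_true]
      · refine ⟨g * cycB, mul_mem hg hb, fun i => ?_⟩
        show g.1 (cycB.1 i) = _
        rw [hgi, cyc_apply.2, List.foldl_cons, beq_eq_false_iff_ne.2 h0, cond_false]
  obtain ⟨g, hg, hgi⟩ := key w
  rwa [show σ = g from Subtype.ext (Equiv.ext fun i => (hw i).trans (hgi i).symm)]

/-- the wreath product has no nontrivial normal 2-subgroup -/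
theorem wreath_two_normal (N : Subgroup alternatingFiveWreathTwo) [N.Normal] (hN : IsPGroup 2 N) :
    N = ⊥ := by
  have hsimple : IsSimpleGroup (alternatingGroup (Fin 5)) :=
    alternatingGroup.isSimpleGroup (by simp)
  have hfac : ∀ (f : alternatingGroup (Fin 5) →* alternatingFiveWreathTwo), Function.Injective f →
      ∀ σ, f σ ∈ N → σ = 1 := by
    intro f hf σ hσ
    rcases (inferInstance : (N.comap f).Normal).eq_bot_or_eq_top with h | h
    · have : σ ∈ N.comap f := hσ
      rw [h] at this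
      exact this
    · exfalso
      have hp : IsPGroup 2 (⊤ : Subgroup (alternatingGroup (Fin 5))) := h ▸ hN.comap_of_injective f hf
      obtain ⟨n, hn⟩ := IsPGroup.iff_card.1 hp
      rw [Subgroup.card_top, card_alt] at hn
      have : 3 ∣ 2 ^ n := ⟨20, by omega⟩
      exact absurd (Nat.prime_three.dvd_of_dvd_pow this) (by norm_num)
  let l : alternatingGroup (Fin 5) →* alternatingFiveWreathTwo := inlHom.codRestrict _ inl_mem
  let r : alternatingGroup (Fin 5) →* alternatingFiveWreathTwo := inrHom.codRestrict _ inr_mem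
  have hl : Function.Injective l := fun a b h => Subtype.ext (Equiv.ext fun i =>
    Sum.inl_injective (congrArg (fun p : alternatingFiveWreathTwo => p.1 (Sum.inl i)) h))
  have hr : Function.Injective r := fun a b h => Subtype.ext (Equiv.ext fun i =>
    Sum.inr_injective (congrArg (fun p : alternatingFiveWreathTwo => p.1 (Sum.inr i)) h))
  refine (Subgroup.eq_bot_iff_forall N).2 fun x hx => ?_
  -- where the element sends the summands
  have hcomm : ∀ (f : alternatingGroup (Fin 5) →* alternatingFiveWreathTwo) σ,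
      x * f σ * x⁻¹ * (f σ)⁻¹ ∈ N := fun f σ => by
    have h1 : f σ * x⁻¹ * (f σ)⁻¹ ∈ N := (inferInstance : N.Normal).conj_mem _ (inv_mem hx) _
    have := mul_mem hx h1
    rwa [← mul_assoc, ← mul_assoc] at this
  -- membership in the wreath product preserves or exchanges the summands
  have hpart : ∀ g ∈ alternatingFiveWreathTwo,
      (∃ σ τ : alternatingGroup (Fin 5), g = inlHom σ * inrHom τ) ∨
      ∃ σ τ : alternatingGroup (Fin 5), g = inlHom σ * inrHom τ * Equiv.sumComm (Fin 5) (Fin 5) := by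
    intro g hg
    refine Subgroup.closure_induction (fun g hg => ?_) ?_ ?_ ?_ hg
    · rcases hg with ⟨σ, τ, rfl⟩ | rfl
      · exact Or.inl ⟨σ, τ, Equiv.ext fun y => by cases y <;> rfl⟩
      · exact Or.inr ⟨1, 1, by simp⟩
    · exact Or.inl ⟨1, 1, by simp⟩
    · rintro a b - - (⟨σ, τ, rfl⟩ | ⟨σ, τ, rfl⟩) (⟨σ', τ', rfl⟩ | ⟨σ', τ', rfl⟩)
      · exact Or.inl ⟨σ * σ', τ * τ', Equiv.ext fun y => by cases y <;> rfl⟩
      · exact Or.inr ⟨σ * σ', τ * τ', Equiv.ext fun y => by cases y <;> rfl⟩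
      · exact Or.inr ⟨σ * τ', τ * σ', Equiv.ext fun y => by cases y <;> rfl⟩
      · exact Or.inl ⟨σ * τ', τ * σ', Equiv.ext fun y => by cases y <;> rfl⟩
    · rintro a - (⟨σ, τ, rfl⟩ | ⟨σ, τ, rfl⟩)
      · refine Or.inl ⟨σ⁻¹, τ⁻¹, inv_eq_of_mul_eq_one_right (Equiv.ext fun y => ?_)⟩
        cases y <;> simp [inlHom, inrHom]
      · refine Or.inr ⟨τ⁻¹, σ⁻¹, inv_eq_of_mul_eq_one_right (Equiv.ext fun y => ?_)⟩
        cases y <;> simp [inlHom, inrHom]
  rcases hpart x.1 x.2 with ⟨σ, τ, hx'⟩ | ⟨σ, τ, hx'⟩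
  · have hσ : ∀ a, σ * a = a * σ := fun a => by
      have h := hcomm l a
      rw [show x * l a * x⁻¹ * (l a)⁻¹ = l (σ * a * σ⁻¹ * a⁻¹) by
        rw [mul_inv_eq_iff_eq_mul, mul_inv_eq_iff_eq_mul, show x = l σ * r τ from Subtype.ext hx']
        exact Subtype.ext (Equiv.ext fun y => by cases y <;> simp [l, r, inlHom, inrHom])] at h
      exact mul_inv_eq_iff_eq_mul.1 (mul_inv_eq_one.1 (hfac l hl _ h))
    have hτ : ∀ a, τ * a = a * τ := fun a => by
      have h := hcomm r a
      rw [show x * r a * x⁻¹ * (r a)⁻¹ = r (τ * a * τ⁻¹ * a⁻¹) by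
        rw [mul_inv_eq_iff_eq_mul, mul_inv_eq_iff_eq_mul, show x = l σ * r τ from Subtype.ext hx']
        exact Subtype.ext (Equiv.ext fun y => by cases y <;> simp [l, r, inlHom, inrHom])] at h
      exact mul_inv_eq_iff_eq_mul.1 (mul_inv_eq_one.1 (hfac r hr _ h))
    have hz : ∀ c : alternatingGroup (Fin 5), (∀ a, c * a = a * c) → c = 1 := fun c hc =>
      Subtype.ext (Equiv.ext (centraliser_alt c.1
        (fun i => by
          rw [← cyc_apply.1, ← cyc_apply.1]
          exact congrArg (fun u : alternatingGroup (Fin 5) => u.1 i) (hc cycA))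
        (fun i => by
          rw [← cyc_apply.2, ← cyc_apply.2]
          exact congrArg (fun u : alternatingGroup (Fin 5) => u.1 i) (hc cycB))))
    refine Subtype.ext ?_
    rw [hx', hz σ hσ, hz τ hτ]
    simp
  · exfalso
    -- the commutator with a factor lies in the base and is not trivial there
    set s : alternatingFiveWreathTwo := ⟨Equiv.sumComm (Fin 5) (Fin 5), swap_mem⟩
    have hxs : x = l σ * r τ * s := Subtype.ext hx'
    have h := hcomm r cycA
    have e : x * r cycA * x⁻¹ * (r cycA)⁻¹ = l (σ * cycA * σ⁻¹) * r cycA⁻¹ := by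
      rw [hxs, mul_inv_rev, mul_inv_rev]
      have hs : s * r cycA = l cycA * s := Subtype.ext (Equiv.ext fun y => by cases y <;> rfl)
      have hc : ∀ c c', r c * l c' = l c' * r c := fun c c' => Subtype.ext (Equiv.ext fun y => by cases y <;> rfl)
      calc l σ * r τ * s * r cycA * (s⁻¹ * ((r τ)⁻¹ * (l σ)⁻¹)) * (r cycA)⁻¹
          = l σ * r τ * (s * r cycA) * s⁻¹ * (r τ)⁻¹ * (l σ)⁻¹ * (r cycA)⁻¹ := by group
        _ = l σ * (r τ * l cycA) * (r τ)⁻¹ * (l σ)⁻¹ * (r cycA)⁻¹ := by rw [hs]; group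
        _ = l σ * l cycA * (l σ)⁻¹ * (r cycA)⁻¹ := by rw [hc]; group
        _ = _ := by simp only [map_mul, map_inv]
    rw [e] at h
    -- an element of the base of order five in a 2-group
    set y := l (σ * cycA * σ⁻¹) * r cycA⁻¹
    have h5 : y ^ 5 = 1 := by
      have hc : Commute (l (σ * cycA * σ⁻¹)) (r cycA⁻¹) :=
        Subtype.ext (Equiv.ext fun y => by cases y <;> rfl)
      have h5' : cycA ^ 5 = 1 := by decide +kernel
      rw [hc.mul_pow, ← map_pow, ← map_pow, conj_pow, inv_pow, h5']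
      simp
    obtain ⟨k, hk⟩ := hN ⟨y, h⟩
    have hk' : y ^ 2 ^ k = 1 := congrArg Subtype.val hk
    have h1 : orderOf y ∣ 1 := by
      have := Nat.dvd_gcd (orderOf_dvd_of_pow_eq_one h5) (orderOf_dvd_of_pow_eq_one hk')
      rwa [Nat.Coprime.gcd_eq_one (Nat.Coprime.pow_right k (by norm_num : Nat.Coprime 5 2))] at this
    have hy : y = 1 := orderOf_eq_one_iff.1 (Nat.dvd_one.1 h1)
    have := congrArg (fun p : alternatingFiveWreathTwo => p.1 (Sum.inr 1)) hy
    simp [y, l, r, inlHom, inrHom] at this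
    exact absurd this (by decide +kernel)

/-! ### The quotient -/

theorem word_checks : wrW.map (fun w => (List.range 10).map fun k =>
      (List.foldl (fun x a => gpFun (Fin.ofNat 3 a) x) (Fin.ofNat 10 k) w).1) =
    [[1, 2, 3, 4, 0, 5, 6, 7, 8, 9], [1, 2, 0, 3, 4, 5, 6, 7, 8, 9], [5, 6, 7, 8, 9, 0, 1, 2, 3, 4]] := by
  decide +kernel

/-- the action on two blocks of five -/
noncomputable def blockHom : good →* Equiv.Perm (Fin 5 ⊕ Fin 5) :=
  (finSumFinEquiv (m := 5) (n := 5)).symm.permCongrHom.toMonoidHom.comp tenHom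

theorem word_mem (w : List ℕ) : ∃ g : good, ∀ k : Fin 10,
    tenHom g k = List.foldl (fun x a => gpFun (Fin.ofNat 3 a) x) k w := by
  induction w with
  | nil => exact ⟨1, fun k => by rw [map_one]; rfl⟩
  | cons a r ih =>
    obtain ⟨g, hg⟩ := ih
    refine ⟨g * ⟨⟨gen (Fin.ofNat 3 a), gen_mem _⟩, gen_good _⟩, fun k => ?_⟩
    rw [map_mul, Equiv.Perm.mul_apply, hg, tenHom_gen, List.foldl_cons]

theorem block_of_word (i : Fin 3) (p : Equiv.Perm (Fin 5 ⊕ Fin 5))
    (hp : ∀ x, (finSumFinEquiv (p x)).1 =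
      (([[1, 2, 3, 4, 0, 5, 6, 7, 8, 9], [1, 2, 0, 3, 4, 5, 6, 7, 8, 9],
        [5, 6, 7, 8, 9, 0, 1, 2, 3, 4]] : List (List ℕ)).getD i.1 []).getD (finSumFinEquiv x).1 0) :
    p ∈ blockHom.range := by
  obtain ⟨g, hg⟩ := word_mem (wrW.getD i.1 [])
  refine ⟨g, Equiv.ext fun x => ?_⟩
  refine (finSumFinEquiv (m := 5) (n := 5)).injective (Fin.ext ?_)
  rw [hp, ← word_checks]
  have hlen : i.1 < wrW.length := by
    have : wrW.length = 3 := by decide +kernel
    omega
  simp only [blockHom, MonoidHom.comp_apply, MulEquiv.coe_toMonoidHom, Equiv.permCongrHom_coe,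
    Equiv.permCongr_apply, Equiv.symm_symm, Equiv.apply_symm_apply, hg]
  set k := finSumFinEquiv x
  rw [List.getD_eq_getElem?_getD (l := List.map _ _), List.getElem?_map,
    List.getElem?_eq_getElem hlen, Option.map_some, Option.getD_some,
    List.getD_eq_getElem?_getD (l := List.map _ _), List.getElem?_map,
    List.getElem?_range k.2, Option.map_some, Option.getD_some, List.getD_eq_getElem _ _ hlen]
  have e : Fin.ofNat 10 k.1 = k := Fin.ext (Nat.mod_eq_of_lt k.2)
  rw [e]

theorem wreath_le_range : alternatingFiveWreathTwo ≤ blockHom.range := by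
  have ha : inlHom cycA ∈ blockHom.range := block_of_word 0 _ (by decide +kernel)
  have hb : inlHom cycB ∈ blockHom.range := block_of_word 1 _ (by decide +kernel)
  exact wreath_le (fun σ => alt_le (H := blockHom.range.comap inlHom) ha hb σ)
    (block_of_word 2 _ (by decide +kernel))

/-- negation -/
noncomputable def negEl : Co0 := signAut ⟨Finset.univ, univ_mem_supports⟩

theorem negEl_smul (v : leechLattice) : negEl • v = -v := Subtype.ext (funext fun l => by
  rw [negEl, signAut_apply, if_pos (Finset.mem_univ l)]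
  rfl)

theorem negEl_center : negEl ∈ Subgroup.center Co0 := Subgroup.mem_center_iff.2 fun g => co0_ext fun v => by
  rw [mul_smul, mul_smul, negEl_smul, negEl_smul, co0_smul_neg]

theorem negEl_ne_one : negEl ≠ 1 := fun h => by
  have h1 := congrArg (fun v : leechLattice => v.1 none) (negEl_smul (axisVec none))
  rw [h, one_smul] at h1
  have h2 : ∀ x : GolayPt → ℤ, x none = 8 → x none ≠ -x none := fun x hx e => by omega
  exact h2 _ (Pi.single_eq_same none 8) h1

theorem negEl_mem : negEl ∈ cent :=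
  Subgroup.mem_centralizer_singleton_iff.2 (Subgroup.mem_center_iff.1 negEl_center five).symm

theorem shHom_five : shHom ⟨five, five_mem⟩ = 1 :=
  shHom_eq_one fun i => by rw [show (⟨five, five_mem⟩ : cent).1 = five from rfl, five_Rv]; exact Cg.refl _

theorem shHom_neg : shHom ⟨negEl, negEl_mem⟩ = 1 :=
  shHom_eq_one fun i => by
    rw [show (⟨negEl, negEl_mem⟩ : cent).1 = negEl from rfl, negEl_smul]; exact Cg.neg_self _

theorem blockHom_eq_one {g : good} (h : shHom g.1 = 1) : blockHom g = 1 := by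
  rw [blockHom, MonoidHom.comp_apply, tenHom_eq_one h, map_one]

theorem orderOf_five : orderOf five = 5 :=
  haveI : Fact (Nat.Prime 5) := ⟨by norm_num⟩
  orderOf_eq_prime five_pow_five five_ne_one

theorem ker_card_ge : 10 ∣ Nat.card blockHom.ker := by
  set f : good := ⟨⟨five, five_mem⟩, good_of_trivial shHom_five⟩
  set n : good := ⟨⟨negEl, negEl_mem⟩, good_of_trivial shHom_neg⟩
  have hf : f ∈ blockHom.ker := blockHom_eq_one shHom_five
  have hn : n ∈ blockHom.ker := blockHom_eq_one shHom_neg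
  have ho : orderOf f = 5 := by rw [← Subgroup.orderOf_coe, ← Subgroup.orderOf_coe]; exact orderOf_five
  have h2 : orderOf n = 2 := by
    haveI : Fact (Nat.Prime 2) := ⟨Nat.prime_two⟩
    refine orderOf_eq_prime (Subtype.ext (Subtype.ext (co0_ext fun v => ?_)))
      fun e => negEl_ne_one (congrArg (fun u : good => u.1.1) e)
    show (negEl ^ 2) • v = (1 : Co0) • v
    rw [pow_two, mul_smul, negEl_smul, negEl_smul, neg_neg, one_smul]
  have d5 := Subgroup.orderOf_dvd_natCard blockHom.ker hf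
  have d2 := Subgroup.orderOf_dvd_natCard blockHom.ker hn
  rw [ho] at d5
  rw [h2] at d2
  exact Nat.Coprime.mul_dvd_of_dvd_of_dvd (by norm_num : Nat.Coprime 5 2) d5 d2

theorem counts : Nat.card blockHom.ker = 10 ∧ good = ⊤ ∧ blockHom.range = alternatingFiveWreathTwo := by
  have h1 := blockHom.ker.card_mul_index
  rw [Subgroup.index_ker] at h1
  have hg : Nat.card good ≤ Nat.card cent := Subgroup.card_le_card_group good
  have hk : 10 ≤ Nat.card blockHom.ker := Nat.le_of_dvd Nat.card_pos ker_card_ge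
  have hr : Nat.card alternatingFiveWreathTwo ≤ Nat.card blockHom.range :=
    Subgroup.card_le_of_le wreath_le_range
  have hW := card_wreath_ge
  have hc := card_cent_le
  have hprod := Nat.mul_le_mul hk (hW.trans hr)
  have hker : Nat.card blockHom.ker = 10 := by
    by_contra hne
    have : 11 ≤ Nat.card blockHom.ker := by omega
    have := Nat.mul_le_mul this (hW.trans hr)
    omega
  refine ⟨hker, Subgroup.eq_top_of_le_card _ (by omega), ?_⟩
  rw [hker] at h1
  exact (Subgroup.eq_of_le_of_card_ge wreath_le_range (by omega)).symm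

/-- the action of the centraliser -/
noncomputable def wrHom : cent →* alternatingFiveWreathTwo :=
  (blockHom.comp ((Subgroup.topEquiv.symm.trans (MulEquiv.subgroupCongr counts.2.1.symm)).toMonoidHom)).codRestrict
    _ fun _ => counts.2.2.le ⟨_, rfl⟩

theorem wrHom_surjective : Function.Surjective wrHom := by
  rintro ⟨w, hw⟩
  obtain ⟨g, hg⟩ := counts.2.2.ge hw
  exact ⟨g.1, Subtype.ext ((congrArg blockHom (Subtype.ext rfl)).trans hg)⟩

theorem wrHom_eq_one {g : cent} (h : shHom g = 1) : wrHom g = 1 :=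
  Subtype.ext (blockHom_eq_one h)

/-- the kernel maps onto the cyclic group of the element modulo the centre -/
theorem wrHom_kernel {g : cent} (h : wrHom g = 1) :
    (QuotientGroup.mk g.1 : Spor.Co1) ∈ Subgroup.zpowers (QuotientGroup.mk five : Spor.Co1) := by
  classical
  let π : Co0 →* Spor.Co1 := QuotientGroup.mk' (Subgroup.center Co0)
  let j : good →* Co0 := cent.subtype.comp good.subtype
  have hj : Function.Injective j := fun a b e => Subtype.ext (Subtype.ext e)
  set M := blockHom.ker.map j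
  have hM : Nat.card M = 10 := by rw [Subgroup.card_map_of_injective hj, counts.1]
  have hfM : five ∈ M := ⟨⟨⟨five, five_mem⟩, good_of_trivial shHom_five⟩, blockHom_eq_one shHom_five, rfl⟩
  have hcM : Subgroup.center Co0 ≤ M := by
    intro c hc
    rcases eq_or_ne c 1 with rfl | hc1
    · exact one_mem M
    · obtain ⟨u, -, huniq⟩ := (Nat.card_eq_two_iff' (1 : Subgroup.center Co0)).1 card_center_co0
      have e : c = negEl := congrArg Subtype.val ((huniq ⟨c, hc⟩ fun e => hc1 (congrArg Subtype.val e)).trans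
        (huniq ⟨negEl, negEl_center⟩ fun e => negEl_ne_one (congrArg Subtype.val e)).symm)
      rw [e]
      exact ⟨⟨⟨negEl, negEl_mem⟩, good_of_trivial shHom_neg⟩, blockHom_eq_one shHom_neg, rfl⟩
  have hg' : g ∈ good := counts.2.1 ▸ Subgroup.mem_top g
  have hgM : g.1 ∈ M := ⟨⟨g, hg'⟩, congrArg Subtype.val h, rfl⟩
  have h1 := Cfsg.Agent.H92.MonsterCross.card_map_mul π M
  rw [show π.ker = Subgroup.center Co0 from QuotientGroup.ker_mk' _, inf_eq_right.2 hcM, card_center_co0,
    hM] at h1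
  have hle : Subgroup.zpowers (π five) ≤ M.map π :=
    (Subgroup.zpowers_le).2 ⟨five, hfM, rfl⟩
  have hz : Nat.card (Subgroup.zpowers (π five)) = 5 := by
    rw [Nat.card_zpowers]
    haveI : Fact (Nat.Prime 5) := ⟨by norm_num⟩
    refine orderOf_eq_prime (by rw [← map_pow, five_pow_five, map_one]) fun e => ?_
    obtain ⟨n, hn⟩ : ∃ n : ℕ, n = orderOf five := ⟨_, rfl⟩
    have h2 : five ^ 2 = 1 := by
      have hcen : five ∈ Subgroup.center Co0 := (QuotientGroup.eq_one_iff five).1 e
      have := orderOf_dvd_natCard (⟨five, hcen⟩ : Subgroup.center Co0)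
      rw [card_center_co0, ← Subgroup.orderOf_coe, orderOf_five] at this
      omega
    have := orderOf_dvd_of_pow_eq_one h2
    rw [orderOf_five] at this
    omega
  show π g.1 ∈ Subgroup.zpowers (π five)
  rw [Subgroup.eq_of_le_of_card_ge hle (by rw [hz]; omega)]
  exact ⟨g.1, hgM, rfl⟩

end Cfsg.Agent.H65.MonsterFive
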